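import Cfsg.Agent.Goldschmidt.Consequences.ThmA.Structure
import Cfsg.Agent.Goldschmidt.Consequences.Core
import Cfsg.Prelude.Def_LocalEven

/-!
The structure of the normal closure of a strongly closed abelian 2-subgroup modulo its odd core.
-/

set_option autoImplicit false
set_option linter.unusedSectionVars false
set_option linter.style.haveILetI false

namespace Cfsg.Lib.Goldschmidt.ThmA

open Subgroup Cfsg.Lib.Components
open scoped commutatorElement

universe u

variable {X : Type u} [Group X] [Finite X] {Q : Type u} [Group Q]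

namespace Cfg

variable {T : Sylow 2 X} {A : Subgroup X} (h : Cfg T A) {j : Q →* X} (hj : Function.Injective j)
  (hr : j.range = normalClosure (A : Set X))
include h hj hr

theorem pCore_closure : Cfsg.pCore 2 Q = (A ⊓ Cfsg.pCore 2 X).comap j := by
  haveI : Finite Q := Finite.of_injective j hj
  refine le_antisymm (fun x hx => ?_) ?_
  · have hle : (Cfsg.pCore 2 Q).map j ≤ j.range := map_le_range j _
    have hN : (((Cfsg.pCore 2 Q).map j).subgroupOf j.range).Normal := ⟨by
      rintro ⟨_, y, rfl⟩ ⟨x, hx, hxy⟩ ⟨_, g, rfl⟩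
      obtain rfl : x = y := hj hxy
      exact ⟨g * x * g⁻¹, (pCore_normal' 2).conj_mem x hx g, by simp⟩⟩
    have hs : (Cfsg.pCore 2 Q).map j ≤ Cfsg.pCore 2 X :=
      le_pCore_of_subnormal (Subgroup.IsSubnormal.step _ j.range hle
        (hr ▸ (normalClosure_normal (s := (A : Set X))).isSubnormal) hN) ((isPGroup_pCore 2).map j)
    exact h.closure_inf_pCore (mem_inf.2 ⟨hr ▸ ⟨x, rfl⟩, hs ⟨x, hx, rfl⟩⟩)
  · haveI := h.inf_pCore_normal
    refine Cfsg.Lib.Components.le_pCore (IsPGroup.comap_of_injective ?_ j hj)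
    exact (isPGroup_pCore 2).to_le inf_le_right

theorem pCore_le_center : Cfsg.pCore 2 Q ≤ center Q := by
  intro x hx
  rw [h.pCore_closure hj hr] at hx
  refine mem_center_iff.2 fun y => hj ?_
  rw [map_mul, map_mul]
  exact mem_centralizer_iff.1 (h.core_central hx) (j y) (hr ▸ ⟨y, rfl⟩)

theorem commutator_eq : commutator Q = (movLayer A).comap j := by
  have h1 : (commutator Q).map j = movLayer A := by
    rw [_root_.commutator_def, map_commutator, ← MonoidHom.range_eq_map, hr, h.commutator_closure]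
  rw [← h1, comap_map_eq_self_of_injective hj]

theorem pCore_sup_commutator : Cfsg.pCore 2 Q ⊔ commutator Q = ⊤ := by
  refine eq_top_iff.2 fun y _ => ?_
  obtain ⟨e, he, z, hz, hez⟩ := h.mem_closure_iff.1 (hr ▸ ⟨y, rfl⟩ : j y ∈ normalClosure (A : Set X))
  obtain ⟨y1, hy1⟩ : e ∈ j.range := hr ▸ (h.normalClosure_eq ▸ mem_sup_left he)
  have hz' : y1⁻¹ * y ∈ Cfsg.pCore 2 Q := by
    rw [h.pCore_closure hj hr, mem_comap, map_mul, map_inv, hy1, ← hez, inv_mul_cancel_left]
    exact hz
  have hy1' : y1 ∈ commutator Q := by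
    rw [h.commutator_eq hj hr, mem_comap, hy1]
    exact he
  have := mul_mem (mem_sup_right (S := Cfsg.pCore 2 Q) hy1') (mem_sup_left (T := commutator Q) hz')
  rwa [mul_inv_cancel_left] at this

theorem exists_sylow : ∃ T' : Sylow 2 Q, A.comap j ≤ (T' : Subgroup Q) ∧
    A.comap j = Cfsg.pCore 2 Q ⊔ Cfsg.omegaOne 2 (T' : Subgroup Q) := by
  haveI : Fact (Nat.Prime 2) := ⟨Nat.prime_two⟩
  haveI : Finite Q := Finite.of_injective j hj
  haveI : (normalClosure (A : Set X)).Normal := normalClosure_normal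
  have hidx : ¬ 2 ∣ ((T : Subgroup X).comap j).index := by
    rw [index_comap, hr, ← even_iff_two_dvd, Nat.not_even_iff_odd]
    exact ProdFusion.odd_relIndex_normal T (normalClosure (A : Set X))
  let T' : Sylow 2 Q := (T.2.comap_of_injective j hj).toSylow hidx
  have hT' : ∀ x : Q, x ∈ (T' : Subgroup Q) ↔ j x ∈ (T : Subgroup X) := fun x => Iff.rfl
  refine ⟨T', fun x hx => (hT' x).2 (h.le hx), le_antisymm (fun y hy => ?_) (sup_le ?_ ?_)⟩
  · obtain ⟨e, he, heE, he2, hz⟩ := h.decomp hy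
    obtain ⟨y1, hy1⟩ : e ∈ j.range := hr ▸ (h.normalClosure_eq ▸ mem_sup_left heE)
    have hy1' : y1 ∈ Cfsg.omegaOne 2 (T' : Subgroup Q) := by
      refine subset_closure ⟨(hT' y1).2 (hy1 ▸ h.le he), hj ?_⟩
      rw [map_pow, hy1, pow_two, he2, map_one]
    have hz' : y1⁻¹ * y ∈ Cfsg.pCore 2 Q := by
      rw [h.pCore_closure hj hr, mem_comap, map_mul, map_inv, hy1]
      exact hz
    have := mul_mem (mem_sup_right (S := Cfsg.pCore 2 Q) hy1')
      (mem_sup_left (T := Cfsg.omegaOne 2 (T' : Subgroup Q)) hz')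
    rwa [mul_inv_cancel_left] at this
  · rw [h.pCore_closure hj hr]
    exact comap_mono inf_le_left
  · refine (closure_le _).2 fun x hx => h.involution_mem (hr ▸ ⟨x, rfl⟩) ((hT' x).1 hx.1) ?_
    rw [← map_mul, ← pow_two, hx.2, map_one]

theorem commutator_factors (hN : Ree.Field.NoFieldProp.{u}) :
    ∃ (ι : Type) (_ : Fintype ι) (L : ι → Type u) (_ : ∀ i, Group (L i)),
      (∀ i, IsSimpleGroup (L i) ∧ ¬ IsMulCommutative (L i) ∧ Cfsg.IsGoldschmidtGroup (L i)) ∧
        Nonempty (↥(commutator Q) ⧸ center ↥(commutator Q) ≃* ((i : ι) → L i)) := by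
  classical
  obtain ⟨n, ⟨e⟩⟩ := Finite.exists_equiv_fin {L // L ∈ movSet A}
  let M : Fin n → Subgroup X := fun i => (e.symm i : Subgroup X)
  have hM : ∀ i, Cfsg.IsComponent (M i) ∧ Mov A (M i) := fun i => (e.symm i).2
  refine ⟨Fin n, inferInstance, fun i => ↥(M i) ⧸ center ↥(M i), fun i => inferInstance, fun i => ?_, ?_⟩
  · obtain ⟨hs, hna⟩ := h.base.simple (hM i).1
    obtain ⟨P, D⟩ := h.data (hM i).1 (hM i).2
    haveI := hs
    refine ⟨hs, hna, ?_⟩
    rcases D.typed with hab | ⟨H, hH⟩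
    · exact goldschmidt_of_abelian hN hna hab
    · exact goldschmidt_of_embedded hna hH
  have hcomm : Pairwise fun i k => ∀ x y : X, x ∈ M i → y ∈ M k → Commute x y := fun i k hik x y hx hy =>
    (mem_centralizer_iff.1 (comm_of_ne (hM i).1 (hM k).1
      (fun e' => hik (e.symm.injective (Subtype.ext e'))) hx) y hy).symm
  set φ := noncommPiCoprod hcomm with hφ
  have hE : (⨆ i, M i) = movLayer A := by
    refine le_antisymm (iSup_le fun i => le_movLayer (hM i).1 (hM i).2) (sSup_le fun L hL => ?_)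
    exact le_iSup_of_le (e ⟨L, hL⟩) (by simp [M])
  have hφr : φ.range = movLayer A := by rw [hφ, noncommPiCoprod_range, hE]
  have hEr : movLayer A ≤ j.range := hr.symm ▸ h.normalClosure_eq ▸ le_sup_left
  let ε : ↥(commutator Q) ≃* ↥(movLayer A) :=
    ((commutator Q).equivMapOfInjective j hj).trans (MulEquiv.subgroupCongr
      (by rw [h.commutator_eq hj hr, map_comap_eq_self hEr]))
  let φ' : (∀ i, M i) →* ↥(movLayer A) := φ.codRestrict _ fun f => hφr ▸ ⟨f, rfl⟩
  let g : (∀ i, M i) →* ↥(commutator Q) ⧸ center ↥(commutator Q) :=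
    (QuotientGroup.mk' _).comp (ε.symm.toMonoidHom.comp φ')
  have hg : Function.Surjective g := by
    intro y
    obtain ⟨x, rfl⟩ := QuotientGroup.mk'_surjective _ y
    obtain ⟨f, hf⟩ : ((ε x : ↥(movLayer A)) : X) ∈ φ.range := hφr.symm ▸ (ε x).2
    exact ⟨f, congrArg _ (ε.symm_apply_eq.2 (Subtype.ext hf))⟩
  let π : (∀ i, M i) →* ∀ i, ↥(M i) ⧸ center ↥(M i) :=
    { toFun := fun f i => zm (M i) (f i)
      map_one' := funext fun i => map_one _
      map_mul' := fun f f' => funext fun i => map_mul _ _ _ }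
  have hπ : Function.Surjective π := fun f =>
    ⟨fun i => (QuotientGroup.mk'_surjective _ (f i)).choose,
      funext fun i => (QuotientGroup.mk'_surjective _ (f i)).choose_spec⟩
  have hker : g.ker = π.ker := by
    ext f
    have h1 : f ∈ g.ker ↔ ∀ m ∈ movLayer A, m * φ f = φ f * m := by
      rw [MonoidHom.mem_ker]
      show QuotientGroup.mk' _ (ε.symm (φ' f)) = 1 ↔ _
      rw [QuotientGroup.mk'_apply, QuotientGroup.eq_one_iff, mem_center_iff]
      constructor
      · intro hc m hm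
        have := congrArg ε (hc (ε.symm ⟨m, hm⟩))
        rw [map_mul, map_mul, MulEquiv.apply_symm_apply, MulEquiv.apply_symm_apply] at this
        exact congrArg Subtype.val this
      · intro hc y
        refine ε.injective ?_
        rw [map_mul, map_mul, MulEquiv.apply_symm_apply]
        exact Subtype.ext (hc _ (ε y).2)
    have h2 : f ∈ π.ker ↔ ∀ i, f i ∈ center ↥(M i) := by
      rw [MonoidHom.mem_ker, funext_iff]
      exact forall_congr' fun i => QuotientGroup.eq_one_iff _
    rw [h1, h2]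
    constructor
    · intro hc i
      refine mem_center_iff.2 fun m => ?_
      have hs : f * Pi.mulSingle i m = Pi.mulSingle i (f i * m * (f i)⁻¹) * f := by
        funext k
        rcases eq_or_ne k i with rfl | hk
        · simp
        · simp [hk]
      have h3 := congrArg φ hs
      rw [map_mul, map_mul, hφ, noncommPiCoprod_mulSingle, noncommPiCoprod_mulSingle, ← hφ,
        ← hc m (le_movLayer (hM i).1 (hM i).2 m.2)] at h3
      have h4 : m = f i * m * (f i)⁻¹ := Subtype.ext (mul_right_cancel h3)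
      exact (eq_mul_inv_iff_mul_eq.1 h4)
    · intro hc m hm
      rw [← hφr] at hm
      obtain ⟨f', rfl⟩ := hm
      rw [← map_mul, ← map_mul]
      exact congrArg φ (funext fun i => mem_center_iff.1 (hc i) (f' i))
  exact ⟨((QuotientGroup.quotientKerEquivOfSurjective g hg).symm.trans
    (QuotientGroup.quotientMulEquivOfEq hker)).trans (QuotientGroup.quotientKerEquivOfSurjective π hπ)⟩

end Cfg

/-- The normal closure of a strongly closed abelian 2-subgroup modulo its odd core. -/
theorem closure_structure (gold : GoldProp.{u}) (hN : Ree.Field.NoFieldProp.{u}) {G : Type u} [Group G] [Finite G]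
    (S : Sylow 2 G) (A : Subgroup G) (hA : IsMulCommutative ↥A) (hsc : Cfsg.IsStronglyClosed A (S : Subgroup G))
    (K : Subgroup G) (hK : K = Subgroup.normalClosure (A : Set G)) (Q : Type u) [Group Q] (π : ↥K →* Q)
    (hπ : Function.Surjective π) (hker : π.ker = Cfsg.pPrimeCore 2 ↥K) :
    Cfsg.pCore 2 Q ⊔ commutator Q = ⊤ ∧ Cfsg.pCore 2 Q ≤ Subgroup.center Q ∧
    (∃ T : Sylow 2 Q, (A.subgroupOf K).map π ≤ (T : Subgroup Q) ∧
      (A.subgroupOf K).map π = Cfsg.pCore 2 Q ⊔ Cfsg.omegaOne 2 (T : Subgroup Q)) ∧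
    ∃ (ι : Type) (_ : Fintype ι) (L : ι → Type u) (_ : ∀ i, Group (L i)),
      (∀ i, IsSimpleGroup (L i) ∧ ¬ IsMulCommutative (L i) ∧ Cfsg.IsGoldschmidtGroup (L i)) ∧
        Nonempty (↥(commutator Q) ⧸ Subgroup.center ↥(commutator Q) ≃* ((i : ι) → L i)) := by
  haveI : Fact (Nat.Prime 2) := ⟨Nat.prime_two⟩
  set q := QuotientGroup.mk' (Cfsg.pPrimeCore 2 G)
  have hq : Function.Surjective q := QuotientGroup.mk'_surjective _
  have h : Cfg (S.mapSurjective hq) (A.map q) :=
    ⟨gold, pPrimeCore_quotient_eq_bot, InvolCalc.stronglyClosed_quotient S hsc _, by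
      rintro _ ⟨x, hx, rfl⟩ _ ⟨y, hy, rfl⟩
      rw [← map_mul, ← map_mul]
      exact congrArg q (congrArg Subtype.val (hA.is_comm.comm ⟨x, hx⟩ ⟨y, hy⟩))⟩
  set φ := q.comp K.subtype
  have hKn : K.Normal := hK ▸ normalClosure_normal
  have hkφ : φ.ker = π.ker := by
    rw [hker, ← pPrimeCore_subgroupOf_eq hKn.isSubnormal]
    ext x
    rw [MonoidHom.mem_ker, mem_subgroupOf]
    exact QuotientGroup.eq_one_iff _
  set j := π.liftOfSurjective hπ ⟨φ, hkφ.ge⟩ with hjdef
  have hjπ : ∀ k, j (π k) = φ k := fun k => MonoidHom.liftOfRightInverse_comp_apply π _ _ _ k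
  have hj : Function.Injective j := by
    rw [← MonoidHom.ker_eq_bot_iff, eq_bot_iff]
    intro y hy
    obtain ⟨k, rfl⟩ := hπ y
    rw [MonoidHom.mem_ker, hjπ, ← MonoidHom.mem_ker, hkφ] at hy
    exact mem_bot.2 hy
  have hr : j.range = normalClosure ((A.map q : Subgroup (G ⧸ Cfsg.pPrimeCore 2 G)) : Set _) := by
    rw [coe_map, ← map_normalClosure (A : Set G) q hq, ← hK]
    ext x
    constructor
    · rintro ⟨y, rfl⟩
      obtain ⟨k, rfl⟩ := hπ y
      exact ⟨k, k.2, (hjπ k).symm⟩
    · rintro ⟨k, hk, rfl⟩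
      exact ⟨π ⟨k, hk⟩, hjπ _⟩
  have hAK : A ≤ K := hK ▸ subset_normalClosure
  have hA' : (A.subgroupOf K).map π = (A.map q).comap j := by
    ext x
    constructor
    · rintro ⟨k, hk, rfl⟩
      exact ⟨k, hk, (hjπ k).symm⟩
    · rintro ⟨a, ha, hax⟩
      exact ⟨⟨a, hAK ha⟩, ha, hj ((hjπ _).trans hax)⟩
  exact ⟨h.pCore_sup_commutator hj hr, h.pCore_le_center hj hr, hA' ▸ h.exists_sylow hj hr,
    h.commutator_factors hj hr hN⟩

end Cfsg.Lib.Goldschmidt.ThmA
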