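import Cfsg.Agent.Goldschmidt.Consequences.ThmA.Comp
import Cfsg.Agent.Components.GenFitting

/-!
The normal closure of a strongly closed abelian 2-subgroup in a group without odd core.
-/

set_option autoImplicit false
set_option linter.unusedSectionVars false
set_option linter.style.haveILetI false

namespace Cfsg.Lib.Goldschmidt.ThmA

open Subgroup Cfsg.Lib.Components
open scoped commutatorElement

universe u

variable {X : Type u} [Group X] [Finite X]

/-- The components moved by `A`. -/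
def movSet (A : Subgroup X) : Set (Subgroup X) := {L | Cfsg.IsComponent L ∧ Mov A L}

/-- Their product. -/
def movLayer (A : Subgroup X) : Subgroup X := sSup (movSet A)

theorem le_movLayer {A L : Subgroup X} (hL : Cfsg.IsComponent L) (hm : Mov A L) : L ≤ movLayer A :=
  le_sSup ⟨hL, hm⟩

theorem comm_of_ne {L L' : Subgroup X} (hL : Cfsg.IsComponent L) (hL' : Cfsg.IsComponent L') (hne : L ≠ L')
    {x : X} (hx : x ∈ L) : x ∈ centralizer (L' : Set X) :=
  commutator_eq_bot_iff_le_centralizer.1 (comp_commute hL hL' hne) hx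

namespace Cfg

variable {T : Sylow 2 X} {A : Subgroup X} (h : Cfg T A)
include h

/-- An element of `A ∩ L` outside the centre. -/
theorem exists_noncentral {L : Subgroup X} (hL : Cfsg.IsComponent L) (hm : Mov A L) :
    ∃ v ∈ A, v ∈ L ∧ v ∉ centralizer (L : Set X) := by
  obtain ⟨P, D⟩ := h.data hL hm
  obtain ⟨i, j, hi, -, hi1, -⟩ := D.facts.simple.two
  obtain ⟨v, hv, -, e⟩ := D.lift i hi
  exact ⟨v, hv, v.2, fun hc => hi1 (e ▸ zm_eq_one.2 hc)⟩

theorem mov_conj {L : Subgroup X} (hL : Cfsg.IsComponent L) (hm : Mov A L) (g : X) :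
    Mov A (L.map (MulAut.conj g).toMonoidHom) := by
  haveI : Fact (Nat.Prime 2) := ⟨Nat.prime_two⟩
  set L' := L.map (MulAut.conj g).toMonoidHom
  have hL' : Cfsg.IsComponent L' := Cfsg.Lib.Components.comp_conj hL g
  obtain ⟨v, hv, hvL, hvc⟩ := h.exists_noncentral hL hm
  set w : X := g * v * g⁻¹ with hw
  have hwL : w ∈ L' := ⟨v, hvL, rfl⟩
  obtain ⟨P, hP⟩ := h.base.sylow_comp hL'
  have hw2 : IsPGroup 2 (zpowers (⟨w, hwL⟩ : L')) := by
    obtain ⟨k, hk⟩ := T.2 ⟨v, h.le hv⟩
    have hk' : v ^ 2 ^ k = 1 := congrArg Subtype.val hk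
    obtain ⟨i, -, hi⟩ := (Nat.dvd_prime_pow Nat.prime_two).1 (orderOf_dvd_of_pow_eq_one
      (show (⟨w, hwL⟩ : L') ^ 2 ^ k = 1 from Subtype.ext (by
        show w ^ 2 ^ k = 1
        rw [hw, conj_pow, hk', mul_one, mul_inv_cancel])))
    exact IsPGroup.of_card (n := i) (by rw [Nat.card_zpowers, hi])
  obtain ⟨R, hR⟩ := hw2.exists_le_sylow
  obtain ⟨l, hl⟩ := MulAction.exists_smul_eq L' R P
  have hmem : l * ⟨w, hwL⟩ * l⁻¹ ∈ (P : Subgroup L') := by
    rw [← hl, Sylow.coe_subgroup_smul]
    exact ⟨_, hR (mem_zpowers _), rfl⟩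
  rw [hP, mem_subgroupOf] at hmem
  have hx : (l : X) * w * (l : X)⁻¹ ∈ A := by
    have h1 := h.closed.2 v hv ((l : X) * g)
      (by rwa [show (l : X) * g * v * ((l : X) * g)⁻¹ = (l : X) * w * (l : X)⁻¹ by rw [hw]; group])
    rwa [show (l : X) * g * v * ((l : X) * g)⁻¹ = (l : X) * w * (l : X)⁻¹ by rw [hw]; group] at h1
  intro hle
  refine hvc (mem_centralizer_iff.2 fun m hm' => ?_)
  have hwc : ∀ y ∈ L', y * w = w * y := fun y hy => by
    have h1 := mem_centralizer_iff.1 (hle hx) ((l : X) * y * (l : X)⁻¹) (mul_mem (mul_mem l.2 hy) (inv_mem l.2))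
    rw [_root_.conj_mul, _root_.conj_mul] at h1
    exact mul_left_cancel (mul_right_cancel h1)
  have h2 := hwc (g * m * g⁻¹) ⟨m, hm', rfl⟩
  rw [hw, _root_.conj_mul, _root_.conj_mul] at h2
  exact mul_left_cancel (mul_right_cancel h2)

theorem movLayer_normal : (movLayer A).Normal := by
  refine ⟨fun x hx g => ?_⟩
  have hle : (movLayer A).map (MulAut.conj g).toMonoidHom ≤ movLayer A := by
    rw [movLayer, sSup_eq_iSup, Subgroup.map_iSup]
    refine iSup_le fun L => ?_
    rw [Subgroup.map_iSup]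
    exact iSup_le fun hL => le_iSup_of_le (L.map (MulAut.conj g).toMonoidHom)
      (le_iSup_of_le ⟨Cfsg.Lib.Components.comp_conj hL.1 g, h.mov_conj hL.1 hL.2 g⟩ le_rfl)
  exact hle ⟨x, hx, rfl⟩

/-- The part of `A` in `O₂`. -/
theorem inf_pCore_normal : (A ⊓ Cfsg.pCore 2 X).Normal := by
  haveI : Fact (Nat.Prime 2) := ⟨Nat.prime_two⟩
  haveI : (Cfsg.pCore 2 X).Normal := Cfsg.Lib.Components.pCore_normal' 2
  refine ⟨fun x hx g => ?_⟩
  have hR : g * x * g⁻¹ ∈ Cfsg.pCore 2 X := Subgroup.Normal.conj_mem inferInstance x hx.2 g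
  exact ⟨h.closed.2 x hx.1 g (Cfsg.Lib.Coprime.pCore_le_sylow 2 T hR), hR⟩

theorem center_le_core {L : Subgroup X} (hL : Cfsg.IsComponent L) (hm : Mov A L) {z : X} (hz : z ∈ L)
    (hzc : z ∈ centralizer (L : Set X)) : z ∈ A ⊓ Cfsg.pCore 2 X := by
  obtain ⟨P, D⟩ := h.data hL hm
  exact ⟨D.center_le z hz hzc, center_component_le_pCore h.core hL ⟨hz, hzc⟩⟩

/-- A product of involutions of the `A ∩ L` takes the place of an element of `A` on the moved components. -/
theorem exists_correct {a : X} (ha : a ∈ A) (s : Finset {L // L ∈ movSet A}) :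
    ∃ e ∈ A, e ∈ movLayer A ∧ e * e = 1 ∧ ∀ L ∈ s, e⁻¹ * a ∈ centralizer ((L : Subgroup X) : Set X) := by
  classical
  induction s using Finset.induction_on with
  | empty => exact ⟨1, one_mem _, one_mem _, one_mul 1, by simp⟩
  | @insert L s hLs ih =>
    obtain ⟨e, he, heE, he2, hes⟩ := ih
    obtain ⟨P, D⟩ := h.data L.2.1 L.2.2
    obtain ⟨l, hl, hlc⟩ := D.proj _ (mul_mem (inv_mem he) ha)
    obtain ⟨v, hv, hv2, hvl⟩ := D.lift _ hl
    refine ⟨e * v, mul_mem he hv, mul_mem heE (le_movLayer L.2.1 L.2.2 v.2), ?_, fun L' hL' => ?_⟩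
    · rw [(show Commute (v : X) e from h.comm _ hv _ he).mul_mul_mul_comm, he2, one_mul]
      exact congrArg Subtype.val hv2
    · rw [show (e * (v : X))⁻¹ * a = (v : X)⁻¹ * (e⁻¹ * a) by group]
      rcases Finset.mem_insert.1 hL' with rfl | hL'
      · rw [show (v : X)⁻¹ * (e⁻¹ * a) = ((v : X)⁻¹ * l) * ((l : X)⁻¹ * (e⁻¹ * a)) by group]
        exact mul_mem (zm_eq_iff.1 hvl) hlc
      · refine mul_mem (inv_mem (comm_of_ne L.2.1 L'.2.1 (fun e' => hLs ?_) v.2)) (hes _ hL')
        rwa [show L = L' from Subtype.ext e']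

/-- `A` is the product of its part in `O₂` and involutions of the moved components. -/
theorem decomp {a : X} (ha : a ∈ A) :
    ∃ e ∈ A, e ∈ movLayer A ∧ e * e = 1 ∧ e⁻¹ * a ∈ A ⊓ Cfsg.pCore 2 X := by
  classical
  haveI : Fact (Nat.Prime 2) := ⟨Nat.prime_two⟩
  haveI := Fintype.ofFinite {L // L ∈ movSet A}
  haveI : (Cfsg.pCore 2 X).Normal := Cfsg.Lib.Components.pCore_normal' 2
  haveI := h.inf_pCore_normal
  obtain ⟨e, he, heE, he2, hes⟩ := h.exists_correct ha Finset.univ
  refine ⟨e, he, heE, he2, ?_⟩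
  set c := e⁻¹ * a
  have hcA : c ∈ A := mul_mem (inv_mem he) ha
  set Z0 := A ⊓ Cfsg.pCore 2 X with hZ0
  set R := Cfsg.pCore 2 X with hR
  -- `c` centralises the layer
  have hlay : c ∈ centralizer ((Cfsg.layer X : Subgroup X) : Set X) := by
    have hle : Cfsg.layer X ≤ centralizer ({c} : Set X) := sSup_le fun L hL l hl => by
      refine mem_centralizer_singleton_iff.2 ?_
      by_cases hm : Mov A L
      · exact mem_centralizer_iff.1 (hes ⟨L, hL, hm⟩ (Finset.mem_univ _)) l hl
      · exact mem_centralizer_iff.1 (not_not.1 hm hcA) l hl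
    exact mem_centralizer_iff.2 fun l hl => mem_centralizer_singleton_iff.1 (hle hl)
  have hTR : R ≤ (T : Subgroup X) := Cfsg.Lib.Coprime.pCore_le_sylow 2 T
  -- the normal subgroup stabilising the series
  let W : Subgroup X :=
    centralizer ((Cfsg.layer X : Subgroup X) : Set X) ⊓ centralizer (Z0 : Set X) ⊓
      { carrier := {g | ∀ x ∈ R, g * x * g⁻¹ * x⁻¹ ∈ Z0}
        one_mem' := fun x _ => by rw [one_mul, inv_one, mul_one, mul_inv_cancel]; exact one_mem _
        mul_mem' := fun {g g'} hg hg' x hx => by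
          rw [show g * g' * x * (g * g')⁻¹ * x⁻¹ =
            g * (g' * x * g'⁻¹ * x⁻¹) * g⁻¹ * (g * x * g⁻¹ * x⁻¹) by group]
          exact mul_mem (Subgroup.Normal.conj_mem inferInstance _ (hg' x hx) g) (hg x hx)
        inv_mem' := fun {g} hg x hx => by
          have hy : g⁻¹ * x * g ∈ R := by
            have := Subgroup.Normal.conj_mem (inferInstance : R.Normal) x hx g⁻¹
            rwa [inv_inv] at this
          have h1 := inv_mem (hg _ hy)
          rw [show (g * (g⁻¹ * x * g) * g⁻¹ * (g⁻¹ * x * g)⁻¹)⁻¹ = g⁻¹ * x * g * x⁻¹ by group] at h1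
          rwa [inv_inv] }
  have hcentN : ∀ (H : Subgroup X), H.Normal → ∀ g y : X, y ∈ centralizer (H : Set X) →
      g * y * g⁻¹ ∈ centralizer (H : Set X) := fun H hH g y hy => mem_centralizer_iff.2 fun m hm => by
    have hm' : g⁻¹ * m * g⁻¹⁻¹ ∈ H := hH.conj_mem m hm g⁻¹
    have := mem_centralizer_iff.1 hy _ hm'
    calc m * (g * y * g⁻¹) = g * (g⁻¹ * m * g⁻¹⁻¹ * y) * g⁻¹ := by group
      _ = g * (y * (g⁻¹ * m * g⁻¹⁻¹)) * g⁻¹ := by rw [this]
      _ = _ := by group
  haveI hWn : W.Normal := ⟨fun y hy g => by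
    refine ⟨⟨hcentN _ inferInstance g y hy.1.1, hcentN _ inferInstance g y hy.1.2⟩, fun x hx => ?_⟩
    have hx' : g⁻¹ * x * g⁻¹⁻¹ ∈ R := Subgroup.Normal.conj_mem inferInstance x hx g⁻¹
    rw [show g * y * g⁻¹ * x * (g * y * g⁻¹)⁻¹ * x⁻¹ =
      g * (y * (g⁻¹ * x * g⁻¹⁻¹) * y⁻¹ * (g⁻¹ * x * g⁻¹⁻¹)⁻¹) * g⁻¹ by group]
    exact Subgroup.Normal.conj_mem inferInstance _ (hy.2 _ hx') g⟩
  set C := centralizer (Cfsg.generalizedFittingSubgroup X : Set X)
  have hC : C ≤ R := by
    haveI : IsMulCommutative C := ⟨⟨fun x y => Subtype.ext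
      (mem_centralizer_iff.1 y.2 x (centralizer_genFitting_le x.2))⟩⟩
    have hCn : C.Normal := by infer_instance
    letI : CommGroup C := { (inferInstance : Group C) with mul_comm := fun a b => mul_comm' a b }
    exact (le_fitting (inferInstance : Group.IsNilpotent C)).trans (Cfsg.Lib.Coprime.fitting_eq_pCore 2 h.core).le
  have hWp : IsPGroup 2 W := fun g => by
    obtain ⟨k, hk⟩ := IsPGroup.iff_card.1 (isPGroup_pCore 2 (G := X))
    have hpow : ∀ z ∈ R, z ^ 2 ^ k = 1 := fun z hz => by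
      have := Subgroup.orderOf_dvd_natCard R hz
      rw [hR, hk] at this
      exact orderOf_dvd_iff_pow_eq_one.1 this
    have h1 : (g : X) ^ 2 ^ k ∈ C := by
      refine mem_centralizer_iff.2 fun y hy => ?_
      have hle : Cfsg.generalizedFittingSubgroup X ≤ centralizer ({(g : X) ^ 2 ^ k} : Set X) := by
        refine sup_le (fun y hy => ?_) fun y hy => ?_
        · exact mem_centralizer_singleton_iff.2
            ((show Commute y (g : X) from mem_centralizer_iff.1 g.2.1.1 y hy).pow_right _).eq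
        · rw [Cfsg.Lib.Coprime.fitting_eq_pCore 2 h.core] at hy
          have hz := g.2.2 y hy
          set z := (g : X) * y * (g : X)⁻¹ * y⁻¹ with hzdef
          have hit : ∀ n : ℕ, (g : X) ^ n * y * ((g : X) ^ n)⁻¹ = z ^ n * y := by
            intro n
            induction n with
            | zero => simp
            | succ n ih =>
              rw [pow_succ' (g : X), show (g : X) * (g : X) ^ n * y * ((g : X) * (g : X) ^ n)⁻¹ =
                (g : X) * ((g : X) ^ n * y * ((g : X) ^ n)⁻¹) * (g : X)⁻¹ by group, ih, ← _root_.conj_mul,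
                show (g : X) * z ^ n * (g : X)⁻¹ = z ^ n by
                  rw [← mem_centralizer_iff.1 g.2.1.2 _ (pow_mem hz n), mul_inv_cancel_right],
                show (g : X) * y * (g : X)⁻¹ = z * y by rw [hzdef, inv_mul_cancel_right], ← mul_assoc, ← pow_succ]
          have := hit (2 ^ k)
          rw [hpow z hz.2, one_mul, mul_inv_eq_iff_eq_mul] at this
          exact mem_centralizer_singleton_iff.2 this.symm
      exact mem_centralizer_singleton_iff.1 (hle hy)
    exact ⟨k + k, Subtype.ext (by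
      show (g : X) ^ 2 ^ (k + k) = 1
      rw [pow_add, pow_mul, hpow _ (hC h1)])⟩
  have hcW : c ∈ W := ⟨⟨hlay, mem_centralizer_iff.2 fun z hz => h.comm z hz.1 c hcA⟩, fun x hx => by
    refine mem_inf.2 ⟨?_, mul_mem (Subgroup.Normal.conj_mem inferInstance x hx c) (inv_mem hx)⟩
    rw [show c * x * c⁻¹ * x⁻¹ = c * (x * c⁻¹ * x⁻¹) by group]
    exact mul_mem hcA ((mem_normalizer_iff.1 (h.sylow_norm (hTR hx)) _).1 (inv_mem hcA))⟩
  exact ⟨hcA, Cfsg.Lib.Components.le_pCore hWp hcW⟩

/-- The normal closure of `A`. -/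
theorem normalClosure_eq : normalClosure (A : Set X) = movLayer A ⊔ (A ⊓ Cfsg.pCore 2 X) := by
  haveI := h.movLayer_normal
  haveI := h.inf_pCore_normal
  refine le_antisymm (normalClosure_le_normal fun a ha => ?_)
    (sup_le (sSup_le fun L hL => ?_) (inf_le_left.trans subset_normalClosure))
  · obtain ⟨e, -, heE, -, hz⟩ := h.decomp ha
    have := mul_mem (mem_sup_left (T := A ⊓ Cfsg.pCore 2 X) heE) (mem_sup_right (S := movLayer A) hz)
    rwa [mul_inv_cancel_left] at this
  · rcases comp_le_or_commute hL.1 (normalClosure_normal (s := (A : Set X))).isSubnormal with h1 | h1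
    · exact h1
    · exfalso
      rw [Subgroup.commutator_comm] at h1
      exact hL.2 (subset_normalClosure.trans (commutator_eq_bot_iff_le_centralizer.1 h1 :))

theorem core_central : A ⊓ Cfsg.pCore 2 X ≤ centralizer (normalClosure (A : Set X) : Set X) := by
  haveI := h.inf_pCore_normal
  haveI : (centralizer ((A ⊓ Cfsg.pCore 2 X : Subgroup X) : Set X)).Normal := normal_centralizer
  refine le_centralizer_iff.1 (normalClosure_le_normal fun a ha => ?_)
  exact mem_centralizer_iff.2 fun z hz => h.comm z hz.1 a ha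

theorem mem_closure_iff {x : X} :
    x ∈ normalClosure (A : Set X) ↔ ∃ e ∈ movLayer A, ∃ z ∈ A ⊓ Cfsg.pCore 2 X, e * z = x := by
  haveI := h.movLayer_normal
  haveI := h.inf_pCore_normal
  rw [h.normalClosure_eq, sup_comm,
    Cfsg.Lib.Coprime.mem_sup_of_le_normalizer' (le_top.trans (normalizer_eq_top _).ge)]

theorem movLayer_perfect : ⁅movLayer A, movLayer A⁆ = movLayer A :=
  le_antisymm (commutator_le_self _) (sSup_le fun _ hL => (comp_perfect hL.1).symm.le.trans
    (commutator_mono (le_movLayer hL.1 hL.2) (le_movLayer hL.1 hL.2)))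

theorem commutator_closure : ⁅normalClosure (A : Set X), normalClosure (A : Set X)⁆ = movLayer A := by
  haveI := h.movLayer_normal
  have hEK : movLayer A ≤ normalClosure (A : Set X) := h.normalClosure_eq ▸ le_sup_left
  refine le_antisymm (commutator_le.2 fun x hx y hy => ?_) (h.movLayer_perfect.symm.le.trans (commutator_mono hEK hEK))
  obtain ⟨e, he, z, hz, rfl⟩ := h.mem_closure_iff.1 hx
  obtain ⟨e', he', z', hz', rfl⟩ := h.mem_closure_iff.1 hy
  have hc : ∀ {w u : X}, w ∈ A ⊓ Cfsg.pCore 2 X → u ∈ normalClosure (A : Set X) → Commute u w := fun hw hu =>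
    mem_centralizer_iff.1 (h.core_central hw) _ hu
  have hzK : z ∈ normalClosure (A : Set X) := subset_normalClosure hz.1
  have e1 : ⁅e * z, e' * z'⁆ = ⁅e, e'⁆ := by
    have c1 : z * (e' * z') * z⁻¹ = e' * z' := by rw [← (hc hz hy).eq, mul_inv_cancel_right]
    have c2 : z' * e⁻¹ * z'⁻¹ = e⁻¹ := by rw [← (hc hz' (inv_mem (hEK he))).eq, mul_inv_cancel_right]
    calc ⁅e * z, e' * z'⁆ = e * (z * (e' * z') * z⁻¹) * e⁻¹ * (e' * z')⁻¹ := by rw [commutatorElement_def]; group
      _ = e * e' * (z' * e⁻¹ * z'⁻¹) * e'⁻¹ := by rw [c1]; group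
      _ = _ := by rw [c2, commutatorElement_def]
  rw [e1]
  exact mul_mem (mul_mem (mul_mem he he') (inv_mem he)) (inv_mem he')

/-- An element of the product of the moved components centralising them lies in `A`. -/
theorem mem_of_central (s : Finset {L // L ∈ movSet A}) : ∀ e ∈ ⨆ L ∈ s, (L : Subgroup X),
    (∀ L ∈ s, e ∈ centralizer ((L : Subgroup X) : Set X)) → e ∈ A := by
  classical
  induction s using Finset.induction_on with
  | empty => intro e he _; simp only [Finset.notMem_empty, iSup_false, iSup_bot, mem_bot] at he; exact he ▸ one_mem A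
  | @insert L s hLs ih =>
    intro e he hc
    rw [Finset.iSup_insert] at he
    have hsc : ⨆ L' ∈ s, (L' : Subgroup X) ≤ centralizer ((L : Subgroup X) : Set X) := iSup₂_le fun L' hL' x hx =>
      comm_of_ne L'.2.1 L.2.1 (fun e' => hLs (by rwa [show L = L' from Subtype.ext e'.symm])) hx
    obtain ⟨e', he', l, hl, h0⟩ := (Cfsg.Lib.Coprime.mem_sup_of_le_normalizer'
      (hsc.trans (centralizer_le_normalizer _))).1 he
    obtain rfl : l * e' = e := by rw [mem_centralizer_iff.1 (hsc he') l hl, h0]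
    have hlc : l ∈ centralizer ((L : Subgroup X) : Set X) := by
      have := mul_mem (hc L (Finset.mem_insert_self _ _)) (inv_mem (hsc he'))
      rwa [mul_inv_cancel_right] at this
    obtain ⟨P, D⟩ := h.data L.2.1 L.2.2
    refine mul_mem (D.center_le l hl hlc) (ih e' he' fun L' hL' => ?_)
    have := mul_mem (inv_mem (comm_of_ne L.2.1 L'.2.1 (fun e'' => hLs (by
      rwa [show L = L' from Subtype.ext e''])) hl)) (hc L' (Finset.mem_insert_of_mem hL'))
    rwa [inv_mul_cancel_left] at this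

/-- An element of the product of the moved components in `T` squaring into their centralisers lies in `A`. -/
theorem mem_of_sq (s : Finset {L // L ∈ movSet A}) : ∀ e ∈ ⨆ L ∈ s, (L : Subgroup X), e ∈ (T : Subgroup X) →
    (∀ L ∈ s, e * e ∈ centralizer ((L : Subgroup X) : Set X)) → e ∈ A := by
  classical
  haveI : Fact (Nat.Prime 2) := ⟨Nat.prime_two⟩
  induction s using Finset.induction_on with
  | empty => intro e he _ _; simp only [Finset.notMem_empty, iSup_false, iSup_bot, mem_bot] at he; exact he ▸ one_mem A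
  | @insert L s hLs ih =>
    intro e he heT hc
    rw [Finset.iSup_insert] at he
    have hsc : ⨆ L' ∈ s, (L' : Subgroup X) ≤ centralizer ((L : Subgroup X) : Set X) := iSup₂_le fun L' hL' x hx =>
      comm_of_ne L'.2.1 L.2.1 (fun e' => hLs (by rwa [show L = L' from Subtype.ext e'.symm])) hx
    obtain ⟨e', he', l, hl, h0⟩ := (Cfsg.Lib.Coprime.mem_sup_of_le_normalizer'
      (hsc.trans (centralizer_le_normalizer _))).1 he
    obtain rfl : l * e' = e := by rw [mem_centralizer_iff.1 (hsc he') l hl, h0]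
    obtain ⟨P, D⟩ := h.data L.2.1 L.2.2
    have hcm : l * e' = e' * l := mem_centralizer_iff.1 (hsc he') l hl
    have hsq : l * e' * (l * e') = (l * l) * (e' * e') := by
      rw [(show Commute e' l from hcm.symm).mul_mul_mul_comm]
    have hl2 : l * l ∈ centralizer ((L : Subgroup X) : Set X) := by
      have h1 := hc L (Finset.mem_insert_self _ _)
      rw [hsq] at h1
      have := mul_mem h1 (inv_mem (mul_mem (hsc he') (hsc he')))
      rwa [mul_inv_cancel_right] at this
    set q := zm (L : Subgroup X) ⟨l, hl⟩ with hq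
    have hn : q ∈ normalizer ((P : Subgroup (↥(L : Subgroup X) ⧸ center ↥(L : Subgroup X))) : Set (↥(L : Subgroup X) ⧸ center ↥(L : Subgroup X))) := by
      refine ZStarApps.mem_normalizer_of_maps fun p hp => ?_
      obtain ⟨y, rfl⟩ := QuotientGroup.mk'_surjective (center ↥(L : Subgroup X)) p
      have hy := (D.mem_iff y).1 hp
      rw [hq, ← map_inv, ← map_mul, ← map_mul]
      refine (D.mem_iff _).2 ?_
      show l * (y : X) * l⁻¹ ∈ (T : Subgroup X)
      rw [show l * (y : X) * l⁻¹ = l * ((y : X) * e') * (e'⁻¹ * l⁻¹) by group,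
        mem_centralizer_iff.1 (hsc he') y y.2,
        show l * (e' * (y : X)) * (e'⁻¹ * l⁻¹) = l * e' * y * (l * e')⁻¹ by group]
      exact mul_mem (mul_mem heT hy) (inv_mem heT)
    have hq2 : q * q = 1 := by rw [hq, ← map_mul]; exact zm_eq_one.2 hl2
    have hqP : q ∈ P := by
      obtain ⟨k, -, hk⟩ := (Nat.dvd_prime_pow Nat.prime_two).1
        (orderOf_dvd_of_pow_eq_one (show q ^ 2 ^ 1 = 1 by rw [pow_one, pow_two, hq2]))
      exact (P.is_maximal' ((IsPGroup.of_card (n := k) (by rw [Nat.card_zpowers, hk])).to_sup_of_normal_right'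
        P.isPGroup' (zpowers_le.2 hn)) le_sup_right).le (mem_sup_left (mem_zpowers _))
    obtain ⟨v, hv, -, hvl⟩ := D.lift q ⟨hqP, hq2⟩
    have hlA : l ∈ A := by
      have := mul_mem hv (D.center_le ((v : X)⁻¹ * l) (mul_mem (inv_mem v.2) hl) (zm_eq_iff.1 hvl))
      rwa [mul_inv_cancel_left] at this
    refine mul_mem hlA (ih e' he' ?_ fun L' hL' => ?_)
    · have := mul_mem (inv_mem (h.le hlA)) heT
      rwa [inv_mul_cancel_left] at this
    · have h1 := hc L' (Finset.mem_insert_of_mem hL')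
      rw [hsq] at h1
      have hll := comm_of_ne L.2.1 L'.2.1 (fun e'' => hLs (by rwa [show L = L' from Subtype.ext e''])) hl
      have := mul_mem (inv_mem (mul_mem hll hll)) h1
      rwa [inv_mul_cancel_left] at this

theorem movLayer_eq_iSup [Fintype {L // L ∈ movSet A}] :
    movLayer A = ⨆ L ∈ (Finset.univ : Finset {L // L ∈ movSet A}), (L : Subgroup X) := by
  rw [movLayer, sSup_eq_iSup']
  exact (iSup_congr fun L => by simp only [Finset.mem_univ, iSup_pos])

/-- The 2-core of the normal closure lies in `A`. -/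
theorem closure_inf_pCore :
    normalClosure (A : Set X) ⊓ Cfsg.pCore 2 X ≤ A ⊓ Cfsg.pCore 2 X := by
  haveI := Fintype.ofFinite {L // L ∈ movSet A}
  haveI : Fact (Nat.Prime 2) := ⟨Nat.prime_two⟩
  intro x hx0
  obtain ⟨hx, hxR⟩ := mem_inf.1 hx0
  obtain ⟨e, he, z, hz, rfl⟩ := h.mem_closure_iff.1 hx
  refine mem_inf.2 ⟨mul_mem ?_ hz.1, hxR⟩
  have heR : e ∈ Cfsg.pCore 2 X := by
    have := mul_mem hxR (inv_mem hz.2)
    rwa [mul_inv_cancel_right] at this
  haveI : (Cfsg.pCore 2 X).Normal := Cfsg.Lib.Components.pCore_normal' 2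
  refine h.mem_of_central Finset.univ e (h.movLayer_eq_iSup ▸ he) fun L _ => ?_
  haveI := (isPGroup_pCore 2 (G := X)).isNilpotent
  have h1 := comp_commute_of_solvable L.2.1 (inferInstance : Group.IsSolvable (Cfsg.pCore 2 X))
    (le_top.trans (normalizer_eq_top _).ge)
  rw [Subgroup.commutator_comm] at h1
  exact commutator_eq_bot_iff_le_centralizer.1 h1 heR

/-- The involutions of the Sylow subgroup in the normal closure lie in `A`. -/
theorem involution_mem {x : X} (hx : x ∈ normalClosure (A : Set X)) (hxT : x ∈ (T : Subgroup X))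
    (hx2 : x * x = 1) : x ∈ A := by
  haveI := Fintype.ofFinite {L // L ∈ movSet A}
  obtain ⟨e, he, z, hz, rfl⟩ := h.mem_closure_iff.1 hx
  refine mul_mem (h.mem_of_sq Finset.univ e (h.movLayer_eq_iSup ▸ he) ?_ fun L _ => ?_) hz.1
  · have := mul_mem hxT (inv_mem (h.le hz.1))
    rwa [mul_inv_cancel_right] at this
  · have heK : e ∈ normalClosure (A : Set X) := h.normalClosure_eq ▸ mem_sup_left he
    have hc : Commute e z := mem_centralizer_iff.1 (h.core_central hz) e heK
    have : e * e = (z * z)⁻¹ := eq_inv_of_mul_eq_one_left (by rw [← hc.symm.mul_mul_mul_comm, hx2])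
    rw [this]
    refine inv_mem (mem_centralizer_iff.2 fun m hm => ?_)
    exact mem_centralizer_iff.1 (h.core_central (mul_mem hz hz)) m
      (h.normalClosure_eq ▸ mem_sup_left (le_movLayer L.2.1 L.2.2 hm))

end Cfg

end Cfsg.Lib.Goldschmidt.ThmA
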