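import Cfsg.Agent.Goldschmidt.S1.Types

/-!
Two further facts on the simple groups with a strongly closed abelian 2-subgroup: the centraliser of a large
invariant subgroup of the Sylow subgroup, and an element without fixed points on the Frattini quotient.
-/

set_option autoImplicit false
set_option linter.unusedSectionVars false
set_option linter.style.haveILetI false

namespace Cfsg.Lib.Goldschmidt.ThmA

open Subgroup

universe u

variable {X : Type u} [Group X] [Finite X]

/-- The facts used. -/
structure AbFacts (P : Sylow 2 X) : Prop where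
  simple : SimpleFacts P
  /-- only elements of order at most two centralise an invariant subgroup with an element of order above two -/
  cent : ∀ B : Subgroup X, B ≤ (P : Subgroup X) →
    normalizer ((P : Subgroup X) : Set X) ≤ normalizer (B : Set X) → (∃ x ∈ B, x * x ≠ 1) →
      ∀ y ∈ P, (∀ b ∈ B, y * b = b * y) → y * y = 1
  fpf : ∃ w ∈ normalizer ((P : Subgroup X) : Set X), ∀ y ∈ P,
    Inv (P : Subgroup X) (w * y * w⁻¹ * y⁻¹) → Inv (P : Subgroup X) y

theorem sq_of_typed_abelian [IsSimpleGroup X] (hna : ¬ IsMulCommutative X) (hab : Walter.AbTwo X) (P : Sylow 2 X) :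
    ∀ x ∈ P, x * x = 1 := by
  classical
  haveI : Fact (Nat.Prime 2) := ⟨Nat.prime_two⟩
  rcases Walter.walterProp X hna hab with hb | hsm | hJ
  · exact (Walter.binary_facts hb P).2.1
  · obtain ⟨F, iF, iFt, h5, K⟩ := small_top hsm
    haveI hK := small_klein K hab P
    exact fun x hx => congrArg Subtype.val (GWFour.sq_of_klein (⟨x, hx⟩ : ↥(P : Subgroup X)))
  · exact ((Walter.jr_facts hna hab hJ).1 P).2.1

open MulAction Cfsg.Lib.BenderSuzuki Cfsg.Lib.RankOne in
theorem bender_extra [IsSimpleGroup X] (hna : ¬ IsMulCommutative X) (hH : ∃ H : Subgroup X, Cfsg.IsStronglyEmbedded H)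
    (P : Sylow 2 X) :
    (∀ B : Subgroup X, B ≤ (P : Subgroup X) →
      normalizer ((P : Subgroup X) : Set X) ≤ normalizer (B : Set X) → (∃ x ∈ B, x * x ≠ 1) →
        ∀ y ∈ P, (∀ b ∈ B, y * b = b * y) → y * y = 1) ∧
    ∃ w ∈ normalizer ((P : Subgroup X) : Set X), ∀ y ∈ P,
      Inv (P : Subgroup X) (w * y * w⁻¹ * y⁻¹) → Inv (P : Subgroup X) y := by
  classical
  haveI : Fact (Nat.Prime 2) := ⟨Nat.prime_two⟩
  obtain ⟨H, t, hs, hN⟩ := exists_rankOne hna hH P
  set a : X ⧸ H := ((1 : X) : X ⧸ H)
  haveI := hs.faithful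
  have hS := hs.setup
  have hst : stabilizer X a = H := MulAction.stabilizer_quotient H
  have hInv : ∀ {i : X}, Inv (P : Subgroup X) i ↔ i ∈ zGroup hs := fun {i} =>
    ⟨fun h => mem_zGroup_of_sq hs h.1 h.2, fun h => ⟨zGroup_le hs h, involGroup_sq hS hs.two h⟩⟩
  have hqz : Nat.card ↥(zGroup hs) = qNum X a := card_zGroup hs
  have hq2 : 4 ≤ qNum X a := Rk.four_le hs
  rcases (Rk.good hs).dich with ⟨-, hn⟩ | ⟨hL, hn, hna'⟩ | ⟨hL, hn, hna', hV⟩
  · -- `|P| = q`
    have hsq : ∀ x ∈ P, x * x = 1 := fun x hx => by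
      by_cases h1 : x = 1
      · rw [h1, one_mul]
      · exact (invl_eq hs hn hx h1).2.2
    exact ⟨fun B hB _ ⟨x, hx, hx2⟩ => absurd (hsq x (hB hx)) hx2, 1, one_mem _, fun y hy _ => ⟨hy, hsq y hy⟩⟩
  · -- `|P| = q ^ 2`
    obtain ⟨E, hE, hEt, C, hEc⟩ := exists_szKern hs hn hna'
    have hEN : ∀ k ∈ E, k ∈ normalizer ((P : Subgroup X) : Set X) := fun k hk => by
      rw [hN, ← hst]; exact (Subgroup.mem_inf.1 (hEt hk)).1
    refine ⟨fun B hB hBN ⟨x, hx, hx2⟩ y hy hcy => ?_, ?_⟩
    · have hxP := hB hx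
      have hfz : ∀ (k : E) (z : zGroup hs), (k : X) * x * (k : X)⁻¹ * z ∈ B ⊔ zGroup hs := fun k z =>
        mul_mem (mem_sup_left ((mem_normalizer_iff.1 (hBN (hEN k k.2)) x).1 hx)) (mem_sup_right z.2)
      let f : Option E × zGroup hs → ↥(B ⊔ zGroup hs) := fun p =>
        p.1.elim ⟨p.2, mem_sup_right p.2.2⟩ fun k => ⟨_, hfz k p.2⟩
      have hsqk : ∀ (k : E) (z : zGroup hs), (k : X) * x * (k : X)⁻¹ * z * ((k : X) * x * (k : X)⁻¹ * z) =
          (k : X) * (x * x) * (k : X)⁻¹ := fun k z => by
        have hkx : (k : X) * x * (k : X)⁻¹ ∈ P := (mem_normalizer_iff.1 (hEN k k.2) x).1 hxP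
        rw [mul_assoc ((k : X) * x * (k : X)⁻¹), ← mul_assoc (z : X), zGroup_comm hs z.2 hkx,
          mul_assoc ((k : X) * x * (k : X)⁻¹) (z : X), involGroup_sq hS hs.two z.2, mul_one, _root_.conj_mul]
      have hinj : Function.Injective f := by
        rintro ⟨o, z⟩ ⟨o', z'⟩ e
        have e' := congrArg Subtype.val e
        rcases o with _ | k <;> rcases o' with _ | k'
        · exact Prod.ext rfl (Subtype.ext e')
        · refine absurd ?_ hx2
          have h := congrArg (fun v => v * v) e'
          change (z : X) * z = (k' : X) * x * (k' : X)⁻¹ * z' * ((k' : X) * x * (k' : X)⁻¹ * z') at h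
          rw [hsqk, involGroup_sq hS hs.two z.2, eq_comm, conj_eq_one_iff] at h
          exact h
        · refine absurd ?_ hx2
          have h := congrArg (fun v => v * v) e'
          change (k : X) * x * (k : X)⁻¹ * z * ((k : X) * x * (k : X)⁻¹ * z) = (z' : X) * z' at h
          rw [hsqk, involGroup_sq hS hs.two z'.2, conj_eq_one_iff] at h
          exact h
        · have h := congrArg (fun v => v * v) e'
          change (k : X) * x * (k : X)⁻¹ * z * ((k : X) * x * (k : X)⁻¹ * z) =
            (k' : X) * x * (k' : X)⁻¹ * z' * ((k' : X) * x * (k' : X)⁻¹ * z') at h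
          rw [hsqk, hsqk] at h
          have hkk : (k' : X)⁻¹ * k = 1 := by
            by_contra hne
            refine hx2 (C.fpf _ (mul_mem (inv_mem k'.2) k.2) hne _ (mul_mem hxP hxP) ?_)
            calc (k' : X)⁻¹ * k * (x * x) * ((k' : X)⁻¹ * k)⁻¹
                = (k' : X)⁻¹ * ((k : X) * (x * x) * (k : X)⁻¹) * k' := by group
              _ = x * x := by rw [h]; group
          have hk : k = k' := Subtype.ext (inv_mul_eq_one.1 hkk).symm
          subst hk
          exact Prod.ext rfl (Subtype.ext (mul_left_cancel (e' : (k : X) * x * (k : X)⁻¹ * z = _ * z')))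
      have hle : B ⊔ zGroup hs ≤ (P : Subgroup X) := sup_le hB (zGroup_le hs)
      have hcard := Nat.card_le_card_of_injective f hinj
      rw [Nat.card_prod, Finite.card_option, hEc, hqz] at hcard
      have htop : B ⊔ zGroup hs = (P : Subgroup X) :=
        Subgroup.eq_of_le_of_card_ge hle (by rw [hn, pow_two]; exact hcard)
      have hall : (P : Subgroup X) ≤ centralizer ({y} : Set X) := by
        rw [← htop]
        exact sup_le (fun b hb => mem_centralizer_singleton_iff.2 (hcy b hb).symm)
          fun z hz => mem_centralizer_singleton_iff.2 (zGroup_comm hs hz hy)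
      letI := C.autCommGroup
      have h : SuzukiTwo.InvolTrans C.autE.subtype := C.involTrans
      exact congrArg Subtype.val (SuzukiTwo.center_sq_eq_one C.p2 h C.nab (⟨y, hy⟩ : ↥(P : Subgroup X))
        (mem_center_iff.2 fun g => Subtype.ext (mem_centralizer_singleton_iff.1 (hall g.2))))
    · obtain ⟨k, hk, hk1⟩ : ∃ k ∈ E, k ≠ 1 := by
        by_contra hc
        push Not at hc
        have hEb : E = ⊥ := eq_bot_iff.2 fun k hk => mem_bot.2 (hc k hk)
        rw [hEb, card_bot] at hEc
        omega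
      refine ⟨k, hEN k hk, fun y hy hi => ⟨hy, C.fpf k hk hk1 _ (mul_mem hy hy) ?_⟩⟩
      set z := k * y * k⁻¹ * y⁻¹ with hz
      have hzy : z * y = y * z := zGroup_comm hs (hInv.1 hi) hy
      calc k * (y * y) * k⁻¹ = (z * y) * (z * y) := by rw [hz]; group
        _ = (z * y) * (y * z) := by rw [hzy]
        _ = z * (y * y) * z := by group
        _ = y * y * (z * z) := by rw [zGroup_comm hs (hInv.1 hi) (mul_mem hy hy)]; group
        _ = y * y := by rw [hi.2, mul_one]
  · -- `|P| = q ^ 3`
    have I := U3.Input.of_step hs (ih_of_unitary unitaryStep _) hL hn hna' hV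
    obtain ⟨A, hA, -⟩ := I.exists_KV
    obtain ⟨⟨w, hw⟩, hw1⟩ := Subgroup.ne_bot_iff_exists_ne_one.1 hV
    have hw1' : w ≠ 1 := fun e => hw1 (Subtype.ext e)
    have hone : (1 : X) ∈ invK (X ⧸ H) a t := ⟨one_mem _, by group⟩
    have hNa : ∀ {g : X}, g ∈ twoStab (X ⧸ H) a t → g ∈ normalizer ((P : Subgroup X) : Set X) := fun hg => by
      rw [hN, ← hst]; exact (Subgroup.mem_inf.1 hg).1
    refine ⟨fun B hB hBN ⟨x, hx, hx2⟩ y hy hcy => ?_, w, hNa (Subgroup.mem_inf.1 hw).1, fun y hy hi => ?_⟩
    · by_contra hy2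
      have hxP := hB hx
      set Cy := centralizer ({y} : Set X)
      set C := (P : Subgroup X) ⊓ Cy
      have hidx : qNum X a ≤ Cy.relIndex (P : Subgroup X) := by
        have hz : ∀ z : zGroup hs, ∃ g : ↥(P : Subgroup X), y * g * y⁻¹ * (g : X)⁻¹ = z := fun z => by
          rcases (mem_zGroup hs).1 z.2 with e | e
          · exact ⟨1, by rw [e, OneMemClass.coe_one]; group⟩
          · obtain ⟨g, hg, e'⟩ := (Rk.good hs).nondeg hn y hy hy2 z e
            exact ⟨⟨g, hg⟩, e'⟩
        choose g hg using hz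
        rw [← hqz]
        show _ ≤ (Cy.subgroupOf (P : Subgroup X)).index
        rw [index_eq_card]
        refine Nat.card_le_card_of_injective (fun z => (QuotientGroup.mk (g z) : _ ⧸ Cy.subgroupOf _))
          fun z z' e => Subtype.ext ?_
        have hc : ((g z : X))⁻¹ * g z' ∈ Cy := mem_subgroupOf.1 (QuotientGroup.eq.1 e)
        rw [← hg z, ← hg z']
        have hc' := mem_centralizer_singleton_iff.1 hc
        calc y * g z * y⁻¹ * (g z : X)⁻¹ = y * g z * (y⁻¹ * ((g z : X)⁻¹ * g z')) * (g z' : X)⁻¹ := by group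
          _ = y * g z * (((g z : X)⁻¹ * g z') * y⁻¹) * (g z' : X)⁻¹ := by
              rw [(show Commute ((g z : X)⁻¹ * g z') y from hc').inv_right.eq]
          _ = _ := by group
      have hAN : ∀ k ∈ A, k ∈ normalizer ((P : Subgroup X) : Set X) := fun k hk => by
        obtain ⟨k₁, hk₁, w₁, hw₁, rfl⟩ := (hA k).1 hk
        exact mul_mem (hNa hk₁.1) (hNa (Subgroup.mem_inf.1 hw₁).1)
      have hfz : ∀ (k : A) (z : zGroup hs), (k : X) * x * (k : X)⁻¹ * z ∈ C := fun k z => by
        have hb := (mem_normalizer_iff.1 (hBN (hAN k k.2)) x).1 hx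
        exact mem_inf.2 ⟨mul_mem (hB hb) (zGroup_le hs z.2), mul_mem (mem_centralizer_singleton_iff.2 (hcy _ hb).symm)
          (mem_centralizer_singleton_iff.2 (zGroup_comm hs z.2 hy))⟩
      let f : Option A × zGroup hs → C := fun p =>
        p.1.elim ⟨p.2, zGroup_le hs p.2.2, mem_centralizer_singleton_iff.2 (zGroup_comm hs p.2.2 hy)⟩
          fun k => ⟨_, hfz k p.2⟩
      have hxz : x ∉ zGroup hs := fun h => hx2 (involGroup_sq hS hs.two h)
      have hinj : Function.Injective f := by
        rintro ⟨o, z⟩ ⟨o', z'⟩ e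
        have e' := congrArg Subtype.val e
        have hout : ∀ (k : A) (z z' : zGroup hs), (k : X) * x * (k : X)⁻¹ * z ≠ z' := fun k z z' h => hxz (by
          have hk : (k : X) * x * (k : X)⁻¹ ∈ zGroup hs := by
            rw [eq_mul_inv_of_mul_eq h]; exact mul_mem z'.2 (inv_mem z.2)
          have hki : (k : X)⁻¹ ∈ stabilizer X a := by rw [hst, ← hN]; exact inv_mem (hAN k k.2)
          have := Rk.stab_mem_zGroup hs hki hk
          rwa [show (k : X)⁻¹ * ((k : X) * x * (k : X)⁻¹) * (k : X)⁻¹⁻¹ = x by group] at this)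
        rcases o with _ | k <;> rcases o' with _ | k'
        · exact Prod.ext rfl (Subtype.ext e')
        · exact absurd e'.symm (hout _ _ _)
        · exact absurd e' (hout _ _ _)
        · change (k : X) * x * (k : X)⁻¹ * z = (k' : X) * x * (k' : X)⁻¹ * z' at e'
          have hd : (k'⁻¹ * k : A) = 1 := by
            by_contra hne
            obtain ⟨k₁, hk₁, w₁, hw₁, e₁⟩ := (hA _).1 (k'⁻¹ * k).2
            have hk'i : (k' : X)⁻¹ ∈ stabilizer X a := by rw [hst, ← hN]; exact inv_mem (hAN k' k'.2)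
            refine hx2 ((U3.Input.mem_Z _).1 (I.mem_Z_of_fixed hk₁ hw₁ (fun h1 => hne (Subtype.ext ?_)) hxP ?_)).2
            · rw [← e₁] at h1; exact h1
            · rw [← e₁, U3.Input.mem_Z]
              suffices hz2 : x⁻¹ * (((k'⁻¹ * k : A) : X) * x * ((k'⁻¹ * k : A) : X)⁻¹) ∈ zGroup hs from
                ⟨zGroup_le hs hz2, involGroup_sq hS hs.two hz2⟩
              have := Rk.stab_mem_zGroup hs hk'i (mul_mem z'.2 (inv_mem z.2))
              convert this using 1
              rw [Subgroup.coe_mul, Subgroup.coe_inv]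
              have e2 : (k : X) * x * (k : X)⁻¹ = (k' : X) * x * (k' : X)⁻¹ * ((z' : X) * (z : X)⁻¹) := by
                rw [← mul_assoc, eq_mul_inv_iff_mul_eq]; exact e'
              calc x⁻¹ * ((k' : X)⁻¹ * k * x * ((k' : X)⁻¹ * k)⁻¹)
                  = x⁻¹ * (k' : X)⁻¹ * ((k : X) * x * (k : X)⁻¹) * k' := by group
                _ = _ := by rw [e2]; group
          have hk : k = k' := (inv_mul_eq_one.1 hd).symm
          subst hk
          exact Prod.ext rfl (Subtype.ext (mul_left_cancel e'))
      have hcard := Nat.card_le_card_of_injective f hinj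
      rw [Nat.card_prod, Finite.card_option, hqz] at hcard
      have hmul : Nat.card C * Cy.relIndex (P : Subgroup X) = qNum X a ^ 3 := by
        rw [← hn, ← inf_relIndex_left, ← relIndex_bot_left, Subgroup.relIndex_mul_relIndex ⊥ C _ bot_le inf_le_left,
          relIndex_bot_left]
      -- `|K V| ≥ 2 (q - 1)`
      obtain ⟨K, hK, -, -⟩ := inverted_subgroup hS hs.two
      have hKm : ∀ k, k ∈ K ↔ k ∈ invK (X ⧸ H) a t := fun k => Set.ext_iff.1 hK k
      have hKc : Nat.card K + 1 = qNum X a := by
        rw [show Nat.card K = Nat.card (invK (X ⧸ H) a t) from Nat.card_congr (Equiv.setCongr hK),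
          show Nat.card (invK (X ⧸ H) a t) = Nat.card (invl X a) from swap_card hS]
        rfl
      let g : K × Bool → A := fun p => ⟨(p.1 : X) * (if p.2 then w else 1), (hA _).2
        ⟨p.1, (hKm _).1 p.1.2, _, by split_ifs; exacts [hw, one_mem _], rfl⟩⟩
      have hg : Function.Injective g := by
        rintro ⟨k, i⟩ ⟨k', i'⟩ e
        have e' : (k : X) * (if i then w else 1) = (k' : X) * (if i' then w else 1) := congrArg Subtype.val e
        have hwi : ∀ b : Bool, (if b then w else (1 : X)) ∈ centI (X ⧸ H) a t := fun b => by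
          split_ifs; exacts [hw, one_mem _]
        have hk : (k' : X)⁻¹ * k = 1 := by
          refine I.K_inter_V ((hKm _).1 (K.mul_mem (K.inv_mem k'.2) k.2)) ?_
          have : (k' : X)⁻¹ * k = (if i' then w else 1) * (if i then w else (1 : X))⁻¹ := by
            rw [eq_mul_inv_iff_mul_eq, mul_assoc, e', inv_mul_cancel_left]
          rw [this]
          exact mul_mem (hwi i') (inv_mem (hwi i))
        have hkk : k = k' := Subtype.ext (inv_mul_eq_one.1 hk).symm
        subst hkk
        have h3 := mul_left_cancel e'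
        cases i <;> cases i' <;> simp_all
      have hA2 := Nat.card_le_card_of_injective g hg
      rw [Nat.card_prod, Nat.card_eq_fintype_card (α := Bool), Fintype.card_bool] at hA2
      have h1 := Nat.mul_le_mul hcard hidx
      rw [hmul, show qNum X a ^ 3 = qNum X a * (qNum X a * qNum X a) by ring,
        show (Nat.card A + 1) * qNum X a * qNum X a = (Nat.card A + 1) * (qNum X a * qNum X a) by ring] at h1
      have h2 := Nat.le_of_mul_le_mul_right h1 (by positivity)
      omega
    · have hz := hInv.1 hi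
      refine ⟨hy, ((U3.Input.mem_Z _).1 (I.mem_Z_of_fixed hone hw (by rwa [one_mul]) hy ?_)).2⟩
      rw [U3.Input.mem_Z, one_mul]
      suffices h : y⁻¹ * (w * y * w⁻¹) ∈ zGroup hs from ⟨zGroup_le hs h, involGroup_sq hS hs.two h⟩
      rw [show w * y * w⁻¹ = w * y * w⁻¹ * y⁻¹ * y by group, zGroup_comm hs hz hy, inv_mul_cancel_left]
      exact hz

/-- The facts for the groups with abelian Sylow subgroups or a strongly embedded subgroup. -/
theorem abFacts_of_typed [IsSimpleGroup X] (hna : ¬ IsMulCommutative X) (h : TypedX X) (P : Sylow 2 X) :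
    AbFacts P := by
  refine ⟨simpleFacts_of_typed hna h P, ?_, ?_⟩ <;> rcases h with hab | hH
  · exact fun B hB _ ⟨x, hx, hx2⟩ => absurd (sq_of_typed_abelian hna hab P x (hB hx)) hx2
  · exact (bender_extra hna hH P).1
  · exact ⟨1, one_mem _, fun y hy _ => ⟨hy, sq_of_typed_abelian hna hab P y hy⟩⟩
  · exact (bender_extra hna hH P).2

end Cfsg.Lib.Goldschmidt.ThmA
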