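import Cfsg.Agent.Goldschmidt.S1.Types
import Cfsg.Agent.TwoFusion.Product.Split
import Cfsg.Agent.Walter.Fusion

/-!
An automorphism of two-power order trivial on the elements of order at most two of a Sylow 2-subgroup and on
the quotient by them is conjugation by an element of the Sylow subgroup.
-/

set_option autoImplicit false
set_option linter.unusedSectionVars false
set_option linter.style.haveILetI false

namespace Cfsg.Lib.Goldschmidt.ThmA

open Subgroup

universe u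

variable {X : Type u} [Group X] [Finite X] {P : Sylow 2 X}

/-- The elements of `P` of order at most two. -/
def invGroup (F : SimpleFacts P) : Subgroup X where
  carrier := {i | Inv (P : Subgroup X) i}
  one_mem' := ⟨one_mem _, one_mul 1⟩
  mul_mem' := fun {i j} hi hj => ⟨mul_mem hi.1 hj.1, by
    rw [show i * j * (i * j) = i * (j * i) * j by group, ← F.central i hi j hj.1,
      show i * (i * j) * j = (i * i) * (j * j) by group, hi.2, hj.2, one_mul]⟩
  inv_mem' := fun {i} hi => ⟨inv_mem hi.1, by rw [← mul_inv_rev, hi.2, inv_one]⟩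

variable (F : SimpleFacts P)
include F

theorem mem_invGroup {i : X} : i ∈ invGroup F ↔ Inv (P : Subgroup X) i := Iff.rfl

theorem normalizer_le_invGroup :
    normalizer ((P : Subgroup X) : Set X) ≤ normalizer ((invGroup F : Subgroup X) : Set X) := fun _ hg =>
  ZStarApps.mem_normalizer_of_maps fun i hi =>
    ⟨(mem_normalizer_iff.1 hg i).1 hi.1, by rw [_root_.conj_mul, hi.2, mul_one, mul_inv_cancel]⟩

/-- The automorphisms trivial on both layers of `P`. -/
def triv : Subgroup (MulAut X) :=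
  let M : Submonoid (MulAut X) :=
    { carrier := {β | (∀ i, Inv (P : Subgroup X) i → β i = i) ∧ ∀ x ∈ P, Inv (P : Subgroup X) (x⁻¹ * β x)}
      one_mem' := ⟨fun i _ => rfl, fun x _ => by rw [MulAut.one_apply, inv_mul_cancel]; exact one_mem (invGroup F)⟩
      mul_mem' := fun {β γ} hβ hγ => ⟨fun i hi => by rw [MulAut.mul_apply, hγ.1 i hi, hβ.1 i hi], fun x hx => by
        have hgx : γ x ∈ P := by
          have := mul_mem hx (hγ.2 x hx).1
          rwa [mul_inv_cancel_left] at this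
        have h : x⁻¹ * γ x * ((γ x)⁻¹ * β (γ x)) ∈ invGroup F :=
          mul_mem (s := invGroup F) (hγ.2 x hx) (hβ.2 _ hgx)
        rwa [mul_assoc, mul_inv_cancel_left] at h⟩ }
  { M with
    inv_mem' := fun {g} hg => by
      have h1 := pow_mem (S := M) hg (orderOf g - 1)
      rwa [show g ^ (orderOf g - 1) = g⁻¹ from (inv_eq_of_mul_eq_one_right (by
        rw [← pow_succ', Nat.sub_add_cancel (orderOf_pos g), pow_orderOf_eq_one])).symm] at h1 }

theorem mem_triv {β : MulAut X} : β ∈ triv F ↔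
    (∀ i, Inv (P : Subgroup X) i → β i = i) ∧ ∀ x ∈ P, Inv (P : Subgroup X) (x⁻¹ * β x) := Iff.rfl

theorem conj_mem_triv {p : X} (hp : p ∈ P) : MulAut.conj p ∈ triv F := by
  refine ⟨fun i hi => by rw [MulAut.conj_apply, ← F.central i hi p hp, mul_inv_cancel_right], fun x hx => ?_⟩
  rw [MulAut.conj_apply]
  show x⁻¹ * (p * x * p⁻¹) ∈ invGroup F
  rw [show x⁻¹ * (p * x * p⁻¹) = x⁻¹ * x⁻¹ * ((x * p) * (x * p)) * (p⁻¹ * p⁻¹) by group]
  exact mul_mem (mul_mem (F.sq _ (inv_mem hx)) (F.sq _ (mul_mem hx hp))) (F.sq _ (inv_mem hp))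

theorem center_bot [IsSimpleGroup X] (hna : ¬ IsMulCommutative X) {y : X} (hy : ∀ g, y * g = g * y) : y = 1 := by
  have hc : center X = ⊥ :=
    (IsSimpleGroup.eq_bot_or_eq_top_of_normal (center X) inferInstance).resolve_right fun e =>
      hna ⟨⟨fun a b => mem_center_iff.1 (e ▸ mem_top b) a⟩⟩
  exact mem_bot.1 (hc ▸ mem_center_iff.2 fun g => (hy g).symm)

theorem conj_inj [IsSimpleGroup X] (hna : ¬ IsMulCommutative X) {y : X} (h : MulAut.conj y = 1) : y = 1 :=
  center_bot F hna fun g => mul_inv_eq_iff_eq_mul.1 (by simpa using congrArg (fun f : MulAut X => f g) h)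

/-- A trivial-on-both-layers automorphism of two-power order fixing a point-free element is trivial. -/
theorem eq_one_of_fix {δ : MulAut X} (hδ : δ ∈ triv F)
    (h2 : ∃ j : ℕ, orderOf δ = 2 ^ j) {g : X}
    (hg : ∀ i, Inv (P : Subgroup X) i → g * i = i * g → i = 1) (hfix : δ g = g) : δ = 1 := by
  obtain ⟨j, hj⟩ := h2
  rcases Nat.eq_zero_or_pos j with rfl | hj0
  · rwa [pow_zero, orderOf_eq_one_iff] at hj
  exfalso
  set γ := δ ^ 2 ^ (j - 1) with hγ
  have hdvd : 2 ^ (j - 1) ∣ orderOf δ := hj ▸ pow_dvd_pow 2 (Nat.sub_le j 1)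
  have ho : orderOf γ = 2 := by
    rw [hγ, orderOf_pow_of_dvd (by positivity) hdvd, hj, Nat.pow_div (Nat.sub_le j 1) two_pos,
      show j - (j - 1) = 1 by omega, pow_one]
  have hγm : γ ∈ triv F := pow_mem hδ _
  obtain ⟨v, hv, e⟩ := F.inner γ (by rw [← pow_two, ← ho, pow_orderOf_eq_one]) hγm.1 hγm.2
  have hfix' : ∀ n : ℕ, (δ ^ n) g = g := by
    intro n
    induction n with
    | zero => rfl
    | succ n ih => rw [pow_succ, MulAut.mul_apply, hfix, ih]
  have hvg : γ g = g := hfix' _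
  rw [e, MulAut.conj_apply, mul_inv_eq_iff_eq_mul] at hvg
  rw [hg v hv hvg.symm, map_one] at e
  rw [e, orderOf_one] at ho
  omega

/-- A point-free element of prime power order in `N(P)`. -/
theorem exists_point_free : ∃ p : ℕ, p.Prime ∧ p ≠ 2 ∧ ∃ g ∈ normalizer ((P : Subgroup X) : Set X),
    (∃ e : ℕ, orderOf g = p ^ e) ∧ ∀ h : X, h ∈ normalizer ((P : Subgroup X) : Set X) →
      (∀ i, Inv (P : Subgroup X) i → h * i * h⁻¹ = g * i * g⁻¹) →
      ∀ i, Inv (P : Subgroup X) i → h * i = i * h → i = 1 := by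
  classical
  obtain ⟨r, hr, hodd, htr, hsemi, -⟩ := F.rot
  set N := normalizer ((P : Subgroup X) : Set X)
  set φ := Walter.conjHom N (invGroup F) (normalizer_le_invGroup F)
  set rN : N := ⟨r, hr⟩
  set m := orderOf (φ rN)
  have hm1 : m ≠ 1 := fun e => by
    obtain ⟨i, j, hi, hj, hi1, hj1, hij⟩ := F.two
    obtain ⟨k, hk⟩ := htr i j hi hj hi1 hj1
    rw [orderOf_eq_one_iff] at e
    have h1 : φ (rN ^ k) = 1 := by rw [map_pow, e, one_pow]
    have h2 : r ^ k * i * (r ^ k)⁻¹ = i :=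
      congrArg (fun f : MulAut ↥(invGroup F) => ((f ⟨i, hi⟩ : invGroup F) : X)) h1
    exact hij (h2.symm.trans hk)
  set p := m.minFac
  have hp : p.Prime := Nat.minFac_prime hm1
  have hmo : m ∣ orderOf r := by
    have := orderOf_map_dvd φ rN
    rwa [Subgroup.orderOf_mk] at this
  have hp2 : p ≠ 2 := fun e => Nat.not_even_iff_odd.2 hodd (even_iff_two_dvd.2 (e ▸ (Nat.minFac_dvd m).trans hmo))
  set o := orderOf r
  set c := o / p ^ o.factorization p with hc
  have ho0 : o ≠ 0 := (orderOf_pos r).ne'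
  have hne : φ (rN ^ c) ≠ 1 := fun e => by
    rw [map_pow] at e
    exact Nat.not_dvd_ordCompl hp ho0 ((Nat.minFac_dvd m).trans (orderOf_dvd_of_pow_eq_one e))
  refine ⟨p, hp, hp2, r ^ c, pow_mem hr c, ⟨o.factorization p, ?_⟩, fun h hh hhi i hi hc' => ?_⟩
  · have hd : c ∣ o := Nat.ordCompl_dvd o p
    rw [orderOf_pow_of_dvd (Nat.ordCompl_pos p ho0).ne' hd,
      Nat.div_eq_of_eq_mul_left (Nat.ordCompl_pos p ho0) (Nat.ordProj_mul_ordCompl_eq_self o p).symm]
  · by_contra hi1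
    refine hne (MulEquiv.ext fun j => Subtype.ext ?_)
    show r ^ c * (j : X) * (r ^ c)⁻¹ = j
    refine hsemi c i hi hi1 ?_ j j.2
    rw [← hhi i hi, hc', mul_inv_cancel_right]

theorem inner_of_trivial [IsSimpleGroup X] (hna : ¬ IsMulCommutative X) {α : MulAut X}
    (h2 : ∃ j : ℕ, orderOf α = 2 ^ j) (hα : α ∈ triv F) : ∃ y ∈ P, α = MulAut.conj y := by
  classical
  haveI : Fact (Nat.Prime 2) := ⟨Nat.prime_two⟩
  obtain ⟨p, hp, hp2, g₁, hg₁, ⟨e₁, he₁⟩, hfree⟩ := exists_point_free F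
  haveI : Fact p.Prime := ⟨hp⟩
  set N := normalizer ((P : Subgroup X) : Set X) with hN
  set φ := Walter.conjHom N (invGroup F) (normalizer_le_invGroup F)
  have hφ : ∀ (g : N) (i : invGroup F), ((φ g i : invGroup F) : X) = g * i * (g : X)⁻¹ := fun g i => rfl
  set g₁N : N := ⟨g₁, hg₁⟩
  set M₀ : Subgroup N := (zpowers (φ g₁N)).comap φ
  set M : Subgroup X := M₀.map N.subtype with hM
  have hPM : (P : Subgroup X) ≤ M := fun x hx => by
    refine ⟨⟨x, le_normalizer hx⟩, ?_, rfl⟩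
    show φ ⟨x, le_normalizer hx⟩ ∈ zpowers (φ g₁N)
    rw [show φ ⟨x, le_normalizer hx⟩ = 1 from MulEquiv.ext fun i => Subtype.ext (by
      rw [hφ]; show x * (i : X) * x⁻¹ = i; rw [← F.central i i.2 x hx, mul_inv_cancel_right])]
    exact one_mem _
  have hg₁M : g₁ ∈ M := ⟨g₁N, mem_zpowers (φ g₁N), rfl⟩
  have hMN : M ≤ N := map_subtype_le _
  -- the automorphisms preserving `M` and the action on the involutions
  let V₀ : Submonoid (MulAut X) :=
    { carrier := {β | ∀ g ∈ M, β g ∈ M ∧ ∀ i, Inv (P : Subgroup X) i → β g * i * (β g)⁻¹ = g * i * g⁻¹}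
      one_mem' := fun g hg => ⟨hg, fun i _ => rfl⟩
      mul_mem' := fun {β γ} hβ hγ g hg => by
        obtain ⟨h1, h1'⟩ := hγ g hg
        obtain ⟨h2', h2''⟩ := hβ _ h1
        exact ⟨h2', fun i hi => (h2'' i hi).trans (h1' i hi)⟩ }
  let V : Subgroup (MulAut X) :=
    { V₀ with
      inv_mem' := fun {b} hb => by
        have h1 := pow_mem (S := V₀) hb (orderOf b - 1)
        rwa [show b ^ (orderOf b - 1) = b⁻¹ from (inv_eq_of_mul_eq_one_right (by
          rw [← pow_succ', Nat.sub_add_cancel (orderOf_pos b), pow_orderOf_eq_one])).symm] at h1 }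
  have hMV : M.map MulAut.conj ≤ V := by
    rintro _ ⟨m, hm, rfl⟩ g hg
    refine ⟨mul_mem (mul_mem hm hg) (inv_mem hm), fun i hi => ?_⟩
    obtain ⟨m', hm', rfl⟩ := hm
    obtain ⟨g', hg', rfl⟩ := hg
    obtain ⟨a, ha⟩ := mem_zpowers_iff.1 (hm' : φ m' ∈ zpowers (φ g₁N))
    obtain ⟨b, hb⟩ := mem_zpowers_iff.1 (hg' : φ g' ∈ zpowers (φ g₁N))
    have hc : φ (m' * g' * m'⁻¹) = φ g' := by
      rw [map_mul, map_mul, map_inv, ← ha, ← hb]; group
    exact congrArg (fun f : MulAut ↥(invGroup F) => ((f ⟨i, hi⟩ : invGroup F) : X)) hc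
  have hαP : ∀ x ∈ P, α x ∈ P := fun x hx => by
    have := mul_mem hx ((mem_triv F).1 hα |>.2 x hx).1
    rwa [mul_inv_cancel_left] at this
  have hαN : ∀ g ∈ N, α g ∈ N := by
    intro g hg
    refine ZStarApps.mem_normalizer_of_maps fun x hx => ?_
    have hm : (P : Subgroup X).map α.toMonoidHom = P := Subgroup.eq_of_le_of_card_ge
      (by rintro _ ⟨z, hz, rfl⟩; exact hαP z hz) (card_map_of_injective α.injective).ge
    obtain ⟨z, hz, rfl⟩ : x ∈ (P : Subgroup X).map α.toMonoidHom := by rw [hm]; exact hx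
    show α g * α z * (α g)⁻¹ ∈ (P : Subgroup X)
    rw [← map_inv, ← map_mul, ← map_mul]
    exact hαP _ ((mem_normalizer_iff.1 hg z).1 hz)
  have hαV : α ∈ V := by
    intro g hg
    have hact : ∀ i, Inv (P : Subgroup X) i → α g * i * (α g)⁻¹ = g * i * g⁻¹ := fun i hi => by
      conv_lhs => rw [← hα.1 i hi]
      rw [← map_inv, ← map_mul, ← map_mul]
      exact hα.1 _ (mem_invGroup F |>.1
        ((mem_normalizer_iff.1 (normalizer_le_invGroup F (hMN hg)) i).1 hi))
    refine ⟨?_, hact⟩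
    obtain ⟨g', hg', rfl⟩ := hg
    refine ⟨⟨α g', hαN g' g'.2⟩, ?_, rfl⟩
    show φ _ ∈ zpowers (φ g₁N)
    rw [show φ ⟨α g', hαN g' g'.2⟩ = φ g' from MulEquiv.ext fun i => Subtype.ext (hact i i.2)]
    exact hg'
  set Mh := M.map MulAut.conj with hMh
  set Uh := (P : Subgroup X).map MulAut.conj ⊔ zpowers α with hUh
  set W := Mh ⊔ zpowers α with hW
  have hWV : W ≤ V := sup_le hMV (zpowers_le.2 hαV)
  have hWn : W ≤ normalizer (Mh : Set (MulAut X)) := by
    refine sup_le le_normalizer (zpowers_le.2 (ZStarApps.mem_normalizer_of_maps ?_))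
    rintro _ ⟨m, hm, rfl⟩
    exact ⟨α m, (hαV m hm).1, MulEquiv.ext fun x => by
      simp only [MulAut.mul_apply, MulAut.conj_apply, map_mul, map_inv, MulAut.apply_inv_self]⟩
  have hUn : zpowers α ≤ normalizer (((P : Subgroup X).map MulAut.conj : Subgroup (MulAut X)) : Set (MulAut X)) := by
    refine zpowers_le.2 (ZStarApps.mem_normalizer_of_maps ?_)
    rintro _ ⟨m, hm, rfl⟩
    exact ⟨α m, hαP m hm, MulEquiv.ext fun x => by
      simp only [MulAut.mul_apply, MulAut.conj_apply, map_mul, map_inv, MulAut.apply_inv_self]⟩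
  obtain ⟨j, hj⟩ := h2
  have hU2 : IsPGroup 2 Uh :=
    (P.2.map _).to_sup_of_normal_left' (IsPGroup.of_card (n := j) (by rw [Nat.card_zpowers, hj])) hUn
  have hUW : Uh ≤ W := sup_le ((Subgroup.map_mono hPM).trans le_sup_left) le_sup_right
  have hUT : Uh ≤ triv F := sup_le
    (by rintro _ ⟨x, hx, rfl⟩; exact conj_mem_triv F hx) (zpowers_le.2 hα)
  set M' := Mh.subgroupOf W
  haveI hM'n : M'.Normal := normal_subgroupOf_of_le_normalizer hWn
  have hidx : ¬ 2 ∣ (Uh.subgroupOf W).index := by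
    intro hd
    have htop : M' ⊔ Uh.subgroupOf W = ⊤ := by
      rw [← subgroupOf_sup le_sup_left hUW, subgroupOf_eq_top]
      exact sup_le le_sup_left (le_sup_right.trans le_sup_right)
    have h1 := ProdFusion.relIndex_sup_eq M' (Uh.subgroupOf W)
    rw [htop, relIndex_top_right, relIndex_subgroupOf le_sup_left] at h1
    rw [h1] at hd
    have h3 : Uh.relIndex Mh ∣ ((P : Subgroup X).map MulAut.conj).relIndex Mh :=
      relIndex_dvd_of_le_left _ le_sup_left
    rw [hMh, relIndex_map_map_of_injective _ _ fun a b e => ?_] at h3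
    · exact P.not_dvd_index ((hd.trans h3).trans (relIndex_dvd_index_of_le hPM))
    · have h := conj_inj F hna (y := b⁻¹ * a) (by rw [map_mul, map_inv, e, inv_mul_cancel])
      exact (inv_mul_eq_one.1 h).symm
  let TU : Sylow 2 W := (hU2.comap_subtype (K := W)).toSylow hidx
  -- an element of `α M` normalising a Sylow `p`-subgroup
  obtain ⟨R⟩ := (inferInstance : Nonempty (Sylow p M))
  let αM : M ≃* M := MulEquiv.ofBijective
    ((α.toMonoidHom.comp M.subtype).codRestrict M fun g => (hαV g g.2).1)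
    (Finite.injective_iff_bijective.1 fun a b e => Subtype.ext (α.injective (congrArg Subtype.val e)))
  obtain ⟨m, hm⟩ := MulAction.exists_smul_eq M (R.mapSurjective (f := αM.toMonoidHom) αM.surjective) R
  set n : MulAut X := MulAut.conj (m : X) * α with hn
  have hnW : n ∈ W := mul_mem (mem_sup_left ⟨m, m.2, rfl⟩) (mem_sup_right (mem_zpowers α))
  set RX := (R : Subgroup M).map M.subtype with hRX
  have hnR : ∀ g ∈ RX, n g ∈ RX := by
    rintro _ ⟨g, hg, rfl⟩
    refine ⟨m * αM g * m⁻¹, ?_, rfl⟩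
    rw [← hm, Sylow.coe_subgroup_smul]
    exact ⟨αM g, ⟨g, hg, rfl⟩, rfl⟩
  have hnR' : ∀ (k : ℕ), ∀ g ∈ RX, (n ^ k) g ∈ RX := by
    intro k
    induction k with
    | zero => exact fun g hg => hg
    | succ k ih => intro g hg; rw [pow_succ, MulAut.mul_apply]; exact ih _ (hnR g hg)
  obtain ⟨i, o, ho, hio⟩ := Nat.exists_eq_two_pow_mul_odd (orderOf_pos n).ne'
  set β : W := ⟨n, hnW⟩ ^ o with hβ
  have hβ2 : IsPGroup 2 (zpowers β) := by
    refine IsPGroup.of_card (n := i) ?_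
    rw [Nat.card_zpowers, hβ, orderOf_pow_of_dvd ho.pos.ne' (by rw [Subgroup.orderOf_mk, hio]; exact dvd_mul_left _ _),
      Subgroup.orderOf_mk, hio, Nat.mul_div_cancel _ ho.pos]
  obtain ⟨T, hT⟩ := hβ2.exists_le_sylow
  obtain ⟨c, hc⟩ := MulAction.exists_smul_eq W T TU
  set β' : W := c * β * c⁻¹ with hβ'
  have hβ'U : (β' : MulAut X) ∈ Uh := by
    have h : β' ∈ (TU : Subgroup W) := by
      rw [← hc, Sylow.coe_subgroup_smul]
      exact ⟨β, hT (mem_zpowers β), rfl⟩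
    exact h
  -- the invariant Sylow subgroup and a fixed point-free element in it
  set RX' := RX.map (c : MulAut X).toMonoidHom with hRX'
  have hR'inv : ∀ g ∈ RX', (β' : MulAut X) g ∈ RX' := by
    rintro _ ⟨g, hg, rfl⟩
    refine ⟨((β : W) : MulAut X) g, ?_, ?_⟩
    · rw [hβ, SubmonoidClass.coe_pow]; exact hnR' o g hg
    · show (c : MulAut X) ((β : MulAut X) g) = ((c * β * c⁻¹ : W) : MulAut X) ((c : MulAut X) g)
      rw [Subgroup.coe_mul, Subgroup.coe_mul, Subgroup.coe_inv, MulAut.mul_apply, MulAut.mul_apply,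
        MulAut.inv_apply_self]
  obtain ⟨g₀, hg₀R, hg₀M, hg₀i⟩ : ∃ g₀, g₀ ∈ RX' ∧ g₀ ∈ M ∧
      ∀ i, Inv (P : Subgroup X) i → g₀ * i * g₀⁻¹ = g₁ * i * g₁⁻¹ := by
    have hz : IsPGroup p (zpowers (⟨g₁, hg₁M⟩ : M)) := IsPGroup.of_card (n := e₁) (by
      rw [Nat.card_zpowers, Subgroup.orderOf_mk, he₁])
    obtain ⟨R₁, hR₁⟩ := hz.exists_le_sylow
    obtain ⟨m₁, hm₁⟩ := MulAction.exists_smul_eq M R₁ R
    have hg₂ : (m₁ : X) * g₁ * (m₁ : X)⁻¹ ∈ RX := by
      refine ⟨m₁ * ⟨g₁, hg₁M⟩ * m₁⁻¹, ?_, rfl⟩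
      rw [← hm₁, Sylow.coe_subgroup_smul]
      exact ⟨_, hR₁ (mem_zpowers _), rfl⟩
    obtain ⟨h1, h1'⟩ := hMV ⟨m₁, m₁.2, rfl⟩ g₁ hg₁M
    obtain ⟨h2', h2''⟩ := hWV c.2 _ h1
    exact ⟨_, ⟨_, hg₂, rfl⟩, h2', fun i hi => (h2'' i hi).trans (h1' i hi)⟩
  have hRX'M : RX' ≤ M := by
    rintro _ ⟨_, ⟨g, -, rfl⟩, rfl⟩
    exact (hWV c.2 g g.2).1
  let K := {g : X // g ∈ RX' ∧ ∀ i, Inv (P : Subgroup X) i → g * i * g⁻¹ = g₁ * i * g₁⁻¹}
  have hKodd : ¬ 2 ∣ Nat.card K := by
    set D := RX' ⊓ centralizer ((invGroup F : Subgroup X) : Set X)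
    have hbij : Nat.card K = Nat.card D := by
      refine Nat.card_congr
        { toFun := fun g => ⟨g₀⁻¹ * g.1, mem_inf.2 ⟨mul_mem (inv_mem hg₀R) g.2.1, mem_centralizer_iff.2 fun i hi => ?_⟩⟩
          invFun := fun d => ⟨g₀ * d.1, mul_mem hg₀R d.2.1, fun i hi => ?_⟩
          left_inv := fun g => Subtype.ext (mul_inv_cancel_left _ _)
          right_inv := fun d => Subtype.ext (inv_mul_cancel_left _ _) }
      · have h : g₀⁻¹ * (g.1 * i * g.1⁻¹) * g₀ = i := by
          rw [g.2.2 i hi, ← hg₀i i hi]; group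
        calc i * (g₀⁻¹ * g.1) = g₀⁻¹ * (g.1 * i * g.1⁻¹) * g₀ * (g₀⁻¹ * g.1) := by rw [h]
          _ = _ := by group
      · have h := mem_centralizer_iff.1 d.2.2 i hi
        rw [show g₀ * d.1 * i * (g₀ * d.1)⁻¹ = g₀ * (d.1 * i) * d.1⁻¹ * g₀⁻¹ by group, ← h, ← hg₀i i hi]
        group
    intro hd
    rw [hbij] at hd
    obtain ⟨k, hk⟩ := IsPGroup.iff_card.1 (((R.2.map M.subtype).map (c : MulAut X).toMonoidHom).to_le
      (inf_le_left : D ≤ RX'))
    rw [hk] at hd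
    exact hp2 ((Nat.prime_dvd_prime_iff_eq Nat.prime_two hp).1 (Nat.prime_two.dvd_of_dvd_pow hd)).symm
  have hKstab : ∀ g : K, (β' : MulAut X) g.1 ∈ RX' ∧
      ∀ i, Inv (P : Subgroup X) i → (β' : MulAut X) g.1 * i * ((β' : MulAut X) g.1)⁻¹ = g₁ * i * g₁⁻¹ := fun g =>
    ⟨hR'inv _ g.2.1, fun i hi => ((hWV β'.2 g.1 (hRX'M g.2.1)).2 i hi).trans (g.2.2 i hi)⟩
  let f : Equiv.Perm K := Equiv.ofBijective (fun g => ⟨(β' : MulAut X) g.1, hKstab g⟩)
    (Finite.injective_iff_bijective.1 fun a b e => Subtype.ext ((β' : MulAut X).injective (congrArg Subtype.val e)))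
  haveI := Fintype.ofFinite K
  have hfpow : ∀ k : ℕ, ∀ g : K, ((f ^ k) g).1 = ((β' : MulAut X) ^ k) g.1 := by
    intro k
    induction k with
    | zero => intro g; rfl
    | succ k ih => intro g; rw [pow_succ' f, Equiv.Perm.mul_apply, pow_succ' (β' : MulAut X), MulAut.mul_apply, ← ih]; rfl
  obtain ⟨l, hl⟩ := hU2 ⟨_, hβ'U⟩
  have hl' : (β' : MulAut X) ^ 2 ^ l = 1 := congrArg Subtype.val hl
  obtain ⟨g, hg⟩ := Equiv.Perm.exists_fixed_point_of_prime (p := 2) (n := l)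
    (by rwa [Nat.card_eq_fintype_card] at hKodd)
    (show f ^ 2 ^ l = 1 from Equiv.ext fun g => Subtype.ext (by rw [hfpow, hl']; rfl))
  have h1 : (β' : MulAut X) = 1 := by
    refine eq_one_of_fix F (hUT hβ'U) ?_ (fun i hi hgi => hfree g.1 (hMN (hRX'M g.2.1)) g.2.2 i hi hgi)
      (congrArg Subtype.val hg)
    obtain ⟨k, -, hk⟩ := (Nat.dvd_prime_pow Nat.prime_two).1 (orderOf_dvd_of_pow_eq_one hl')
    exact ⟨k, hk⟩
  -- an odd power of `α` is inner
  have hβ1 : (⟨n, hnW⟩ : W) ^ o = 1 := by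
    rw [← hβ]
    exact conj_eq_one_iff.1 (Subtype.ext h1)
  have hpow : ∀ k : ℕ, n ^ k * (α ^ k)⁻¹ ∈ Mh := by
    intro k
    induction k with
    | zero => simp
    | succ k ih =>
      rw [pow_succ' n, pow_succ' α, show n * n ^ k * (α * α ^ k)⁻¹ =
        n * (n ^ k * (α ^ k)⁻¹) * n⁻¹ * (n * α⁻¹) by group]
      refine mul_mem ((mem_normalizer_iff.1 (hWn hnW) _).1 ih) ?_
      rw [hn, mul_inv_cancel_right]
      exact ⟨m, m.2, rfl⟩
  have hno : n ^ o = 1 := congrArg Subtype.val hβ1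
  have h3 := hpow o
  rw [hno, one_mul] at h3
  obtain ⟨y, hy, hye⟩ := inv_mem_iff.1 h3
  obtain ⟨q, hq⟩ := exists_pow_eq_self_of_coprime (x := α) (n := o)
    (by rw [hj]; exact (Nat.coprime_two_right.2 ho).pow_right j)
  rw [← hye, ← map_pow] at hq
  refine ⟨y ^ q, ?_, hq.symm⟩
  -- a two-power element of `M` lies in `P`
  have hz : (y ^ q) ^ 2 ^ j = 1 := conj_inj F hna (by rw [map_pow, hq, ← hj, pow_orderOf_eq_one])
  obtain ⟨k, -, hk⟩ := (Nat.dvd_prime_pow Nat.prime_two).1 (orderOf_dvd_of_pow_eq_one hz)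
  have hle : zpowers (y ^ q) ≤ N := zpowers_le.2 (hMN (pow_mem hy q))
  have h2' : IsPGroup 2 (zpowers (y ^ q)) := IsPGroup.of_card (n := k) (by rw [Nat.card_zpowers, hk])
  exact (P.is_maximal' (h2'.to_sup_of_normal_right' P.isPGroup' hle) le_sup_right).le
    (mem_sup_left (mem_zpowers _))

end Cfsg.Lib.Goldschmidt.ThmA
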