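import Cfsg.Agent.Goldschmidt.Consequences.Setting
import Cfsg.Agent.Goldschmidt.Consequences.ThmA.Facts
import Cfsg.Agent.Goldschmidt.Consequences.ThmA.Inner
import Cfsg.Agent.Goldschmidt.S1.CoreFree
import Cfsg.Agent.Goldschmidt.S1.Moved
import Cfsg.Agent.Walter.CI.Cover

/-!
A component in a group without odd core moved by a strongly closed abelian 2-subgroup `A`: `A` induces on it the
inner automorphisms belonging to the elements of order at most two of the Sylow subgroup, and holds its centre.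
-/

set_option autoImplicit false
set_option linter.unusedSectionVars false
set_option linter.style.haveILetI false

namespace Cfsg.Lib.Goldschmidt.ThmA

open Subgroup Cfsg.Lib.Components
open scoped commutatorElement

universe u

variable {X : Type u} [Group X] [Finite X]

theorem typed_of_gold (gold : GoldProp.{u}) [IsSimpleGroup X] {S : Sylow 2 X} {A : Subgroup X} (hA : A ≠ ⊥)
    (hcomm : ∀ x ∈ A, ∀ y ∈ A, x * y = y * x) (hc : Cfsg.IsStronglyClosed A (S : Subgroup X)) : TypedX X := by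
  haveI : Fact (Nat.Prime 2) := ⟨Nat.prime_two⟩
  refine (gold X S A hA ⟨⟨fun a b => Subtype.ext (hcomm a a.2 b b.2)⟩⟩ hc).imp_left fun h T x hx y hy => ?_
  obtain ⟨g, hg⟩ := MulAction.exists_smul_eq X S T
  rw [← hg] at hx hy
  obtain ⟨a, ha, rfl⟩ := hx
  obtain ⟨b, hb, rfl⟩ := hy
  show MulAut.conj g a * MulAut.conj g b = MulAut.conj g b * MulAut.conj g a
  rw [← map_mul, ← map_mul, show a * b = b * a from congrArg Subtype.val (h.is_comm.comm ⟨a, ha⟩ ⟨b, hb⟩)]

theorem below_of_gold (gold : GoldProp.{u}) (n : ℕ) : Below.{u} n :=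
  fun _ _ _ _ _ _ _ hA hcomm hc _ => typed_of_gold gold hA hcomm hc

/-- In a group with a simple normal subgroup `H` with trivial centraliser a strongly closed abelian 2-subgroup
lies in `H` and is elementary. -/
theorem le_simple (gold : GoldProp.{u}) {S : Sylow 2 X} {A H : Subgroup X} [H.Normal] [IsSimpleGroup ↥H]
    (hna : ¬ IsMulCommutative ↥H) (hC : centralizer (H : Set X) = ⊥) (hcomm : ∀ x ∈ A, ∀ y ∈ A, x * y = y * x)
    (hc : Cfsg.IsStronglyClosed A (S : Subgroup X)) : A ≤ H ∧ ∀ a ∈ A, a * a = 1 := by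
  haveI : Fact (Nat.Prime 2) := ⟨Nat.prime_two⟩
  have hidx : ¬ 2 ∣ ((S : Subgroup X).subgroupOf H).index := by
    rw [← even_iff_two_dvd, Nat.not_even_iff_odd]
    exact ProdFusion.odd_relIndex_normal S H
  let P : Sylow 2 ↥H := (S.2.comap_subtype (K := H)).toSylow hidx
  have hPmem : ∀ x : ↥H, x ∈ P ↔ (x : X) ∈ (S : Subgroup X) := fun x => Iff.rfl
  set B := A.subgroupOf H with hB
  have hBc : Cfsg.IsStronglyClosed B (P : Subgroup ↥H) :=
    ⟨fun a ha => hc.1 ha, fun x hx g hg => hc.2 (x : X) hx (g : X) hg⟩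
  by_cases hB1 : B = ⊥
  · have hd : A ⊓ H = ⊥ := by
      rwa [hB, subgroupOf_eq_bot, disjoint_iff] at hB1
    have hO : Cfsg.oddCore ↥H = ⊥ := by
      haveI : (Cfsg.oddCore ↥H).Normal := normal_of_mem_sSup_normal fun _ h => h.1
      refine (IsSimpleGroup.eq_bot_or_eq_top_of_normal (Cfsg.oddCore ↥H) inferInstance).resolve_right fun e => ?_
      have h1 := coprime_card_pPrimeCore (G := ↥H) 2
      rw [show Cfsg.pPrimeCore 2 ↥H = ⊤ from e, card_top] at h1
      haveI := Cfsg.Agent.PF.isSolvable_of_odd ↥H (Nat.coprime_two_right.1 h1)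
      exact hna ⟨⟨IsSimpleGroup.comm_iff_isSolvable.2 inferInstance⟩⟩
    have h := Cfsg.Lib.TwoFusion.centralizes_of_stronglyClosed S A hc H
      (le_top.trans (normalizer_eq_top H).ge) hO hd
    rw [hC] at h
    have hA : A = ⊥ := le_bot_iff.1 h
    subst hA
    exact ⟨bot_le, fun a ha => by rw [mem_bot.1 ha, one_mul]⟩
  have hBcomm : ∀ x ∈ B, ∀ y ∈ B, x * y = y * x := fun x hx y hy => Subtype.ext (hcomm _ hx _ hy)
  have F := abFacts_of_typed hna (typed_of_gold gold hB1 hBcomm hBc) P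
  have hBsq : ∀ x ∈ B, x * x = 1 := by
    by_contra h
    push Not at h
    obtain ⟨x, hx, hx2⟩ := h
    refine hx2 (F.cent B hBc.1 (fun g hg => ZStarApps.mem_normalizer_of_maps fun b hb => ?_) ⟨x, hx, hx2⟩ x
      (hBc.1 hx) fun b hb => hBcomm x hx b hb)
    exact hBc.2 b hb g ((mem_normalizer_iff.1 hg b).1 (hBc.1 hb))
  have hinv : ∀ i, Inv (P : Subgroup ↥H) i → i ∈ B := by
    intro i hi
    obtain ⟨v, hv, hv1⟩ := (bot_or_exists_ne_one B).resolve_left hB1
    by_cases hi1 : i = 1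
    · exact hi1 ▸ one_mem B
    obtain ⟨r, hr, -, htr, -, -⟩ := F.simple.rot
    obtain ⟨k, hk⟩ := htr v i ⟨hBc.1 hv, hBsq v hv⟩ hi hv1 hi1
    exact hk ▸ hBc.2 v hv (r ^ k) (hk.symm ▸ hi.1)
  have hle : A ≤ H := by
    intro a ha
    set α : MulAut ↥H := MulAut.conjNormal a
    have hα : ∀ x : ↥H, ((α x : ↥H) : X) = a * x * a⁻¹ := fun x => MulAut.conjNormal_apply a x
    have htr : α ∈ triv F.simple := by
      refine ⟨fun i hi => Subtype.ext ?_, fun x hx => ?_⟩
      · rw [hα, hcomm a ha (i : X) (hinv i hi), mul_inv_cancel_right]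
      · have hmem : x⁻¹ * α x ∈ B := by
          show (x : X)⁻¹ * ((α x : ↥H) : X) ∈ A
          rw [hα, show (x : X)⁻¹ * (a * x * a⁻¹) = (x : X)⁻¹ * a * (x : X)⁻¹⁻¹ * a⁻¹ by group]
          exact mul_mem ((mem_normalizer_iff.1 (sylow_le_normalizer hc (inv_mem ((hPmem x).1 hx))) a).1 ha)
            (inv_mem ha)
        exact ⟨hBc.1 hmem, hBsq _ hmem⟩
    have h2 : ∃ j : ℕ, orderOf α = 2 ^ j := by
      obtain ⟨j, hj⟩ := S.2 ⟨a, hc.1 ha⟩
      have hj' : a ^ 2 ^ j = 1 := congrArg Subtype.val hj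
      obtain ⟨k, -, hk⟩ := (Nat.dvd_prime_pow Nat.prime_two).1
        (orderOf_dvd_of_pow_eq_one (show α ^ 2 ^ j = 1 by rw [← map_pow, hj', map_one]))
      exact ⟨k, hk⟩
    obtain ⟨y, -, hy⟩ := inner_of_trivial F.simple hna h2 htr
    have h : (y : X)⁻¹ * a ∈ centralizer (H : Set X) := mem_centralizer_iff.2 fun l hl => by
      have e := congrArg (fun f : MulAut ↥H => ((f ⟨l, hl⟩ : ↥H) : X)) hy
      simp only [hα, MulAut.conj_apply, Subgroup.coe_mul, Subgroup.coe_inv] at e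
      calc l * ((y : X)⁻¹ * a) = (y : X)⁻¹ * ((y : X) * l * (y : X)⁻¹) * a := by group
        _ = (y : X)⁻¹ * (a * l * a⁻¹) * a := by rw [e]
        _ = _ := by group
    rw [hC, mem_bot, inv_mul_eq_one] at h
    exact h ▸ y.2
  exact ⟨hle, fun a ha => congrArg Subtype.val (hBsq ⟨a, hle ha⟩ ha)⟩

/-- A group without odd core with a strongly closed abelian 2-subgroup. -/
structure Cfg (T : Sylow 2 X) (A : Subgroup X) : Prop where
  gold : GoldProp.{u}
  core : Cfsg.pPrimeCore 2 X = ⊥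
  closed : Cfsg.IsStronglyClosed A (T : Subgroup X)
  comm : ∀ x ∈ A, ∀ y ∈ A, x * y = y * x

/-- The projection of `A` on `L` modulo the centre, with the facts. -/
structure CompData (A L : Subgroup X) (T : Sylow 2 X) (P : Sylow 2 (↥L ⧸ center ↥L)) : Prop where
  facts : AbFacts P
  typed : TypedX (↥L ⧸ center ↥L)
  mem_iff : ∀ x : ↥L, zm L x ∈ P ↔ (x : X) ∈ (T : Subgroup X)
  proj : ∀ a ∈ A, ∃ l : ↥L, Inv (P : Subgroup (↥L ⧸ center ↥L)) (zm L l) ∧
    (l : X)⁻¹ * a ∈ centralizer (L : Set X)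
  lift : ∀ i, Inv (P : Subgroup (↥L ⧸ center ↥L)) i → ∃ v : ↥L, (v : X) ∈ A ∧ v * v = 1 ∧ zm L v = i
  center_le : ∀ z ∈ L, z ∈ centralizer (L : Set X) → z ∈ A

namespace Cfg

variable {T : Sylow 2 X} {A : Subgroup X} (h : Cfg T A)
include h

theorem base : CoreFree T (⊥ : Subgroup X) :=
  ⟨h.core, ⟨bot_le, fun x hx g _ => by rw [mem_bot.1 hx, mul_one, mul_inv_cancel]; exact one_mem _⟩,
    fun x hx => by rw [mem_bot.1 hx, one_mul], below_of_gold h.gold _⟩

theorem le : A ≤ (T : Subgroup X) := h.closed.1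

theorem sylow_norm : (T : Subgroup X) ≤ normalizer (A : Set X) := sylow_le_normalizer h.closed

variable {L : Subgroup X} (hL : Cfsg.IsComponent L)
include hL

/-- `A` normalises every component. -/
theorem le_norm : A ≤ normalizer (L : Set X) := by
  haveI : Fact (Nat.Prime 2) := ⟨Nat.prime_two⟩
  intro a ha
  by_contra hn
  have hne : L.map (MulAut.conj a).toMonoidHom ≠ L := fun e => hn (mem_normalizer_iff_map_conj_eq.2 e)
  have hc := commutator_eq_bot_iff_le_centralizer.1 (comp_commute (Cfsg.Lib.Components.comp_conj hL a) hL hne)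
  obtain ⟨P, hP⟩ := h.base.sylow_comp hL
  have hPT : ∀ x : ↥L, x ∈ P ↔ (x : X) ∈ (T : Subgroup X) := fun x => by
    show x ∈ (P : Subgroup ↥L) ↔ _
    rw [hP]; rfl
  have hy : ∀ x ∈ (T : Subgroup X), a * x * a⁻¹ * x⁻¹ ∈ A := fun x hx => by
    rw [show a * x * a⁻¹ * x⁻¹ = a * (x * a⁻¹ * x⁻¹) by group]
    exact mul_mem ha ((mem_normalizer_iff.1 (h.sylow_norm hx) _).1 (inv_mem ha))
  have hfoc : focalSubgroup (P : Subgroup ↥L) ≤ A.subgroupOf L := by
    rw [focalSubgroup_def, closure_le]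
    rintro z ⟨hz, x, hx, u, rfl⟩
    have hxT : (x : X) ∈ (T : Subgroup X) := (hPT x).1 hx
    have hzT : ((⁅x, u⁆ : ↥L) : X) ∈ (T : Subgroup X) := (hPT _).1 hz
    rw [SetLike.mem_coe, mem_subgroupOf]
    set z := ((⁅x, u⁆ : ↥L) : X) with hzdef
    set xa := a * (x : X) * a⁻¹ with hxa
    have hzu : z = (x : X) * u * (x : X)⁻¹ * (u : X)⁻¹ := rfl
    have hcu : (u : X) * xa = xa * u := mem_centralizer_iff.1 (hc ⟨x, x.2, rfl⟩) u u.2
    have hy' := hy x hxT
    have e : (u : X) * (a * x * a⁻¹ * (x : X)⁻¹) * (u : X)⁻¹ = xa * (x : X)⁻¹ * z := by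
      calc (u : X) * (a * x * a⁻¹ * (x : X)⁻¹) * (u : X)⁻¹ = (u : X) * xa * (x : X)⁻¹ * (u : X)⁻¹ := by
            rw [hxa]; group
        _ = xa * (u : X) * (x : X)⁻¹ * (u : X)⁻¹ := by rw [hcu]
        _ = _ := by rw [hzu]; group
    have h2 := h.closed.2 _ hy' (u : X) (by
      rw [e]
      exact mul_mem (mul_mem (mul_mem (mul_mem (h.le ha) hxT) (inv_mem (h.le ha))) (inv_mem hxT)) hzT)
    rw [e] at h2
    have := mul_mem (inv_mem hy') h2
    rwa [hxa, show (a * (x : X) * a⁻¹ * (x : X)⁻¹)⁻¹ * (a * (x : X) * a⁻¹ * (x : X)⁻¹ * z) = z by group] at this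
  have hPA : (P : Subgroup ↥L) ≤ A.subgroupOf L := by
    refine le_trans ?_ hfoc
    rw [← Cfsg.Lib.Transfer.commutator_inf_eq_focal (P : Subgroup ↥L) ?_, qs_perfect hL, top_inf_eq]
    obtain ⟨k, hk⟩ := P.2.exists_card_eq
    obtain ⟨i, -, hi⟩ := (Nat.dvd_prime_pow Nat.prime_two).1
      (hk ▸ relIndex_dvd_card (focalSubgroup (P : Subgroup ↥L)) (P : Subgroup ↥L))
    rw [hi]
    exact Nat.Coprime.pow_right i ((Nat.prime_two.coprime_iff_not_dvd).2 P.not_dvd_index).symm
  refine CoreFree.sylow_not_central h.base hL P fun x hx => mem_center_iff.2 fun m => Subtype.ext ?_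
  refine mem_centralizer_iff.1 (hc ⟨x, x.2, ?_⟩) m m.2
  show a * (x : X) * a⁻¹ = x
  rw [h.comm a ha _ (show (x : X) ∈ A from hPA hx), mul_inv_cancel_right]

/-- `A` induces inner automorphisms whose squares are trivial. -/
theorem exists_inner {a : X} (ha : a ∈ A) :
    ∃ l : ↥L, (l : X)⁻¹ * a ∈ centralizer (L : Set X) ∧ a * a ∈ centralizer (L : Set X) := by
  haveI : Fact (Nat.Prime 2) := ⟨Nat.prime_two⟩
  set M := L ⊔ A
  have hLM : L ≤ M := le_sup_left
  have hAM : A ≤ M := le_sup_right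
  have hMn : M ≤ normalizer (L : Set X) := sup_le le_normalizer (h.le_norm hL)
  set C := (centralizer (L : Set X)).subgroupOf M with hC
  haveI hCn : C.Normal := ⟨fun c hc g => by
    refine mem_centralizer_iff.2 fun y hy => ?_
    have hy' : (g : X)⁻¹ * y * g ∈ L := by
      have h1 := (mem_normalizer_iff.1 (inv_mem (hMn g.2)) y).1 hy
      rwa [inv_inv] at h1
    have h2 := mem_centralizer_iff.1 (mem_subgroupOf.1 hc) _ hy'
    show y * ((g : X) * c * (g : X)⁻¹) = (g : X) * c * (g : X)⁻¹ * y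
    calc y * ((g : X) * c * (g : X)⁻¹) = g * ((g : X)⁻¹ * y * g * c) * (g : X)⁻¹ := by group
      _ = g * (c * ((g : X)⁻¹ * y * g)) * (g : X)⁻¹ := by rw [h2]
      _ = _ := by group⟩
  set π := QuotientGroup.mk' C
  have hπs : Function.Surjective π := QuotientGroup.mk'_surjective C
  obtain ⟨TM, hTM⟩ := exists_sylow_above h.le hAM
  have hc' := InvolCalc.stronglyClosed_quotient TM (closed_subgroup h.closed hAM TM hTM) C
  set H := (L.subgroupOf M).map π with hH
  haveI : (L.subgroupOf M).Normal := normal_subgroupOf_of_le_normalizer hMn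
  haveI : H.Normal := Subgroup.Normal.map inferInstance π hπs
  obtain ⟨hs, hna⟩ := h.base.simple hL
  let f : ↥L →* ↥M ⧸ C := π.comp (inclusion hLM)
  have hker : f.ker = center ↥L := by
    ext l
    rw [MonoidHom.mem_ker]
    show π (inclusion hLM l) = 1 ↔ _
    rw [QuotientGroup.mk'_apply, QuotientGroup.eq_one_iff, hC, mem_subgroupOf, coe_inclusion]
    exact ⟨fun hl => mem_center_iff.2 fun m => Subtype.ext (mem_centralizer_iff.1 hl m m.2),
      fun hl => mem_centralizer_iff.2 fun m hm => congrArg Subtype.val (mem_center_iff.1 hl ⟨m, hm⟩)⟩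
  have hrange : f.range = H := by
    ext y
    constructor
    · rintro ⟨l, rfl⟩
      exact ⟨inclusion hLM l, l.2, rfl⟩
    · rintro ⟨m, hm, rfl⟩
      exact ⟨⟨m, hm⟩, rfl⟩
  let e : ↥L ⧸ center ↥L ≃* ↥H := ((QuotientGroup.quotientMulEquivOfEq hker).symm.trans
    (QuotientGroup.quotientKerEquivRange f)).trans (MulEquiv.subgroupCongr hrange)
  haveI : IsSimpleGroup ↥H := e.symm.isSimpleGroup
  have hnaH : ¬ IsMulCommutative ↥H := fun hcm =>
    hna ⟨⟨fun x y => e.injective (by rw [map_mul, map_mul, hcm.is_comm.comm])⟩⟩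
  have hcent : centralizer (H : Set (↥M ⧸ C)) = ⊥ := by
    refine eq_bot_iff.2 fun q hq => mem_bot.2 ?_
    obtain ⟨m, rfl⟩ := hπs q
    refine (QuotientGroup.eq_one_iff m).2 (mem_subgroupOf.2 (mem_centralizer_of_mod_center hL fun l hl => ?_))
    have h1 := mem_centralizer_iff.1 hq (π ⟨l, hLM hl⟩)
      (mem_map_of_mem π (show (⟨l, hLM hl⟩ : ↥M) ∈ L.subgroupOf M from hl))
    have h2 : π (m * ⟨l, hLM hl⟩ * m⁻¹ * ⟨l, hLM hl⟩⁻¹) = 1 := by
      rw [map_mul, map_mul, map_mul, map_inv, map_inv, ← h1]; group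
    rw [QuotientGroup.mk'_apply, QuotientGroup.eq_one_iff, hC, mem_subgroupOf] at h2
    exact mem_inf.2 ⟨mul_mem ((mem_normalizer_iff.1 (hMn m.2) l).1 hl) (inv_mem hl), h2⟩
  obtain ⟨hle, hsq⟩ := le_simple h.gold (S := TM.mapSurjective hπs) (A := (A.subgroupOf M).map π) hnaH hcent
    (by
      rintro _ ⟨x, hx, rfl⟩ _ ⟨y, hy, rfl⟩
      rw [← map_mul, ← map_mul]
      exact congrArg π (Subtype.ext (h.comm _ hx _ hy))) hc'
  have ha' : π ⟨a, hAM ha⟩ ∈ (A.subgroupOf M).map π :=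
    mem_map_of_mem π (show (⟨a, hAM ha⟩ : ↥M) ∈ A.subgroupOf M from ha)
  obtain ⟨l, hl, hle'⟩ := hle ha'
  refine ⟨⟨l, hl⟩, mem_subgroupOf.1 (QuotientGroup.eq.1 hle'), ?_⟩
  have h1 := hsq _ ha'
  rw [← map_mul] at h1
  exact mem_subgroupOf.1 ((QuotientGroup.eq_one_iff _).1 h1)

/-- A moved component. -/
theorem data (hm : Mov A L) : ∃ P, CompData A L T P := by
  classical
  haveI : Fact (Nat.Prime 2) := ⟨Nat.prime_two⟩
  obtain ⟨hs, hna⟩ := h.base.simple hL
  haveI := hs
  obtain ⟨P₀, hP₀⟩ := h.base.sylow_comp hL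
  have hsur : Function.Surjective (zm L) := QuotientGroup.mk'_surjective _
  set P := P₀.mapSurjective hsur with hP
  have hcz : ∀ z : ↥L, z ∈ center ↥L → (z : X) ∈ (T : Subgroup X) := fun z hz => h.base.center_le_sylow hL z.2
    (mem_centralizer_iff.2 fun m hm' => congrArg Subtype.val (mem_center_iff.1 hz ⟨m, hm'⟩))
  have hmem : ∀ x : ↥L, zm L x ∈ P ↔ (x : X) ∈ (T : Subgroup X) := fun x => by
    constructor
    · rintro ⟨y, hy, e⟩
      have h1 : y⁻¹ * x ∈ center ↥L := QuotientGroup.eq.1 e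
      rw [hP₀] at hy
      have h2 := mul_mem (mem_subgroupOf.1 hy) (hcz _ h1)
      rwa [Subgroup.coe_mul, Subgroup.coe_inv, mul_inv_cancel_left] at h2
    · intro hx
      exact ⟨x, by rw [SetLike.mem_coe, hP₀]; exact hx, rfl⟩
  have hzc : ∀ {z : ↥L}, (z : X) ∈ centralizer (L : Set X) → zm L z = 1 := fun hz => zm_eq_one.2 hz
  -- the projection
  let B : Subgroup (↥L ⧸ center ↥L) :=
    { carrier := {q | ∃ (l : ↥L) (a : X), a ∈ A ∧ (l : X)⁻¹ * a ∈ centralizer (L : Set X) ∧ zm L l = q}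
      one_mem' := ⟨1, 1, one_mem _, by rw [OneMemClass.coe_one, inv_one, one_mul]; exact one_mem _, map_one _⟩
      mul_mem' := by
        rintro _ _ ⟨l, a, ha, hl, rfl⟩ ⟨l', a', ha', hl', rfl⟩
        refine ⟨l * l', a * a', mul_mem ha ha', ?_, map_mul _ _ _⟩
        have e : ((l * l' : ↥L) : X)⁻¹ * (a * a') = (l' : X)⁻¹ * (((l : X)⁻¹ * a) * a') := by
          rw [Subgroup.coe_mul]; group
        rw [e, ← mul_assoc, mem_centralizer_iff.1 hl _ (inv_mem l'.2), mul_assoc]
        exact mul_mem hl hl'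
      inv_mem' := by
        rintro _ ⟨l, a, ha, hl, rfl⟩
        refine ⟨l⁻¹, a⁻¹, inv_mem ha, ?_, map_inv _ _⟩
        rw [Subgroup.coe_inv, inv_inv]
        have h1 := inv_mem hl
        rw [mul_inv_rev, inv_inv] at h1
        have h2 := mem_centralizer_iff.1 h1 l l.2
        rw [show (l : X) * a⁻¹ = (l : X) * (a⁻¹ * l) * (l : X)⁻¹ by group, h2, mul_inv_cancel_right]
        exact h1 }
  have hTmem : ∀ (l : ↥L) (a : X), a ∈ A → (l : X)⁻¹ * a ∈ centralizer (L : Set X) →
      (l : X) ∈ (T : Subgroup X) := by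
    intro l a ha hl
    refine (hmem l).1 ?_
    have hn : zm L l ∈ normalizer ((P : Subgroup (↥L ⧸ center ↥L)) : Set (↥L ⧸ center ↥L)) := by
      refine ZStarApps.mem_normalizer_of_maps fun q hq => ?_
      obtain ⟨y, rfl⟩ := hsur q
      have hy := (hmem y).1 hq
      rw [← map_inv, ← map_mul, ← map_mul]
      refine (hmem _).2 ?_
      show (l : X) * y * (l : X)⁻¹ ∈ (T : Subgroup X)
      have hc := mem_centralizer_iff.1 hl y y.2
      rw [show (l : X) * y * (l : X)⁻¹ = (l : X) * ((y : X) * ((l : X)⁻¹ * a)) * a⁻¹ by group, hc,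
        show (l : X) * ((l : X)⁻¹ * a * y) * a⁻¹ = a * y * a⁻¹ by group]
      exact mul_mem (mul_mem (h.le ha) hy) (inv_mem (h.le ha))
    obtain ⟨l', hl', hsq⟩ := h.exists_inner hL ha
    have e : zm L l = zm L l' := zm_eq_iff.2 (by
      rw [show (l : X)⁻¹ * l' = ((l : X)⁻¹ * a) * ((l' : X)⁻¹ * a)⁻¹ by group]
      exact mul_mem hl (inv_mem hl'))
    have h2 : zm L l * zm L l = 1 := by
      rw [← map_mul]
      refine hzc ?_
      have hc := mem_centralizer_iff.1 hl l l.2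
      show (l : X) * l ∈ centralizer (L : Set X)
      have hla : a * l = (l : X) * a := by
        calc a * l = (l : X) * ((l : X)⁻¹ * a * l) := by group
          _ = (l : X) * (l * ((l : X)⁻¹ * a)) := by rw [← hc]
          _ = _ := by group
      have e2 : (l : X) * l = a * a * (((l : X)⁻¹ * a) * ((l : X)⁻¹ * a))⁻¹ := by
        calc (l : X) * l = a * ((a⁻¹ * l) * l) := by group
          _ = a * (a * (a⁻¹ * l) * (a⁻¹ * l)) := by
              rw [show a * (a⁻¹ * l) * (a⁻¹ * l) = (l : X) * a⁻¹ * l by group]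
              congr 1
              have : a⁻¹ * l = (l : X) * a⁻¹ := by
                calc a⁻¹ * (l : X) = a⁻¹ * ((l : X) * a) * a⁻¹ := by group
                  _ = a⁻¹ * (a * l) * a⁻¹ := by rw [hla]
                  _ = _ := by group
              rw [this]
          _ = _ := by group
      rw [e2]
      exact mul_mem hsq (inv_mem (mul_mem hl hl))
    have hp : IsPGroup 2 (zpowers (zm L l)) := by
      obtain ⟨k, -, hk⟩ := (Nat.dvd_prime_pow Nat.prime_two).1
        (orderOf_dvd_of_pow_eq_one (show zm L l ^ 2 ^ 1 = 1 by rw [pow_one, pow_two, h2]))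
      exact IsPGroup.of_card (n := k) (by rw [Nat.card_zpowers, hk])
    exact (P.is_maximal' (hp.to_sup_of_normal_right' P.isPGroup' (zpowers_le.2 hn)) le_sup_right).le
      (mem_sup_left (mem_zpowers _))
  have hBc : Cfsg.IsStronglyClosed B (P : Subgroup (↥L ⧸ center ↥L)) := by
    refine ⟨fun q ⟨l, a, ha, hl, e⟩ => e ▸ (hmem l).2 (hTmem l a ha hl), ?_⟩
    rintro _ ⟨l, a, ha, hl, rfl⟩ g hg
    obtain ⟨g, rfl⟩ := hsur g
    rw [← map_inv, ← map_mul, ← map_mul] at hg ⊢
    have hgl := (hmem _).1 hg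
    have hc : (g : X) * ((l : X)⁻¹ * a) * (g : X)⁻¹ = (l : X)⁻¹ * a := by
      rw [mem_centralizer_iff.1 hl g g.2, mul_inv_cancel_right]
    have e : (g : X) * a * (g : X)⁻¹ = ((g * l * g⁻¹ : ↥L) : X) * ((l : X)⁻¹ * a) := by
      conv_rhs => arg 2; rw [← hc]
      show _ = (g : X) * l * (g : X)⁻¹ * _
      group
    refine ⟨g * l * g⁻¹, (g : X) * a * (g : X)⁻¹, h.closed.2 a ha g ?_, ?_, rfl⟩
    · rw [e]
      exact mul_mem hgl (mul_mem (inv_mem (hTmem l a ha hl)) (h.le ha))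
    · rw [e, inv_mul_cancel_left]; exact hl
  have hBcomm : ∀ x ∈ B, ∀ y ∈ B, x * y = y * x := by
    rintro _ ⟨l, a, ha, hl, rfl⟩ _ ⟨l', a', ha', hl', rfl⟩
    rw [← map_mul, ← map_mul]
    refine zm_eq_iff.2 ?_
    have hc1 := mem_centralizer_iff.1 hl (l' : X) l'.2
    have hc2 := mem_centralizer_iff.1 hl' (l : X) l.2
    set c := (l : X)⁻¹ * a with hcdef
    set c' := (l' : X)⁻¹ * a' with hc'def
    have e1 : a * a' = (l : X) * l' * (c * c') := by
      calc a * a' = (l : X) * c * ((l' : X) * c') := by rw [hcdef, hc'def]; group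
        _ = (l : X) * (c * l') * c' := by group
        _ = _ := by rw [← hc1]; group
    have e2 : a' * a = (l' : X) * l * (c' * c) := by
      calc a' * a = (l' : X) * c' * ((l : X) * c) := by rw [hcdef, hc'def]; group
        _ = (l' : X) * (c' * l) * c := by group
        _ = _ := by rw [← hc2]; group
    show ((l : X) * l')⁻¹ * ((l' : X) * l) ∈ centralizer (L : Set X)
    have e3 : ((l : X) * l')⁻¹ * ((l' : X) * l) = (c * c') * (c' * c)⁻¹ := by
      have h3 : (l : X) * l' * (c * c') = (l' : X) * l * (c' * c) := by rw [← e1, ← e2, h.comm a ha a' ha']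
      calc ((l : X) * l')⁻¹ * ((l' : X) * l)
          = ((l : X) * l')⁻¹ * ((l' : X) * l * (c' * c)) * (c' * c)⁻¹ := by group
        _ = _ := by rw [← h3]; group
    rw [e3]
    exact mul_mem (mul_mem hl hl') (inv_mem (mul_mem hl' hl))
  have hBne : B ≠ ⊥ := by
    intro e
    refine hm fun a ha => ?_
    obtain ⟨l, hl, -⟩ := h.exists_inner hL ha
    have h1 : zm L l = 1 := mem_bot.1 (e ▸ (⟨l, a, ha, hl, rfl⟩ : zm L l ∈ B))
    have := mul_mem (zm_eq_one.1 h1) hl
    rwa [mul_inv_cancel_left] at this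
  have htyp := typed_of_gold h.gold hBne hBcomm hBc
  have F := abFacts_of_typed hna htyp P
  have hBinv : ∀ i, Inv (P : Subgroup (↥L ⧸ center ↥L)) i ↔ i ∈ B := by
    have hsq : ∀ x ∈ B, x * x = 1 := by
      by_contra hcon
      push Not at hcon
      obtain ⟨x, hx, hx2⟩ := hcon
      refine hx2 (F.cent B hBc.1 (fun g hg => ZStarApps.mem_normalizer_of_maps fun b hb => ?_) ⟨x, hx, hx2⟩ x
        (hBc.1 hx) fun b hb => hBcomm x hx b hb)
      exact hBc.2 b hb g ((mem_normalizer_iff.1 hg b).1 (hBc.1 hb))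
    refine fun i => ⟨fun hi => ?_, fun hi => ⟨hBc.1 hi, hsq i hi⟩⟩
    obtain ⟨v, hv, hv1⟩ := (bot_or_exists_ne_one B).resolve_left hBne
    by_cases hi1 : i = 1
    · exact hi1 ▸ one_mem B
    obtain ⟨r, hr, -, htr, -, -⟩ := F.simple.rot
    obtain ⟨k, hk⟩ := htr v i ⟨hBc.1 hv, hsq v hv⟩ hi hv1 hi1
    exact hk ▸ hBc.2 v hv (r ^ k) (hk.symm ▸ hi.1)
  have hproj : ∀ a ∈ A, ∃ l : ↥L, Inv (P : Subgroup (↥L ⧸ center ↥L)) (zm L l) ∧
      (l : X)⁻¹ * a ∈ centralizer (L : Set X) := fun a ha => by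
    obtain ⟨l, hl, -⟩ := h.exists_inner hL ha
    exact ⟨l, (hBinv _).2 ⟨l, a, ha, hl, rfl⟩, hl⟩
  -- commutators of `A` with `N(P)` give involutions of `A ∩ L`
  have hlift : ∀ i, Inv (P : Subgroup (↥L ⧸ center ↥L)) i → ∃ v : ↥L, (v : X) ∈ A ∧ v * v = 1 ∧ zm L v = i := by
    intro i hi
    by_cases hi1 : i = 1
    · exact ⟨1, one_mem A, one_mul 1, by rw [map_one, hi1]⟩
    obtain ⟨x, y, hx, hy, hx1, hy1, hxy⟩ := F.simple.two
    obtain ⟨j, hj, hj1, hji⟩ : ∃ j, Inv (P : Subgroup (↥L ⧸ center ↥L)) j ∧ j ≠ 1 ∧ j ≠ i := by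
      by_cases e : x = i
      · exact ⟨y, hy, hy1, fun e' => hxy (e.trans e'.symm)⟩
      · exact ⟨x, hx, hx1, e⟩
    have hij : Inv (P : Subgroup (↥L ⧸ center ↥L)) (i * j) := mul_mem (s := invGroup F.simple) hi hj
    have hij1 : i * j ≠ 1 := fun e => hji ((eq_inv_of_mul_eq_one_right e).trans
      (inv_eq_of_mul_eq_one_right hi.2))
    obtain ⟨r, hr, -, htr, -, -⟩ := F.simple.rot
    obtain ⟨k, hk⟩ := htr j (i * j) hj hij hj1 hij1
    obtain ⟨g, hg⟩ := hsur (r ^ k)
    obtain ⟨l, a, ha, hl, hlj⟩ := (hBinv j).1 hj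
    have hgl : ((g * l * g⁻¹ : ↥L) : X) ∈ (T : Subgroup X) := (hmem _).1 (by
      rw [map_mul, map_mul, map_inv, hg, hlj, hk]; exact hij.1)
    have hc : (g : X) * ((l : X)⁻¹ * a) * (g : X)⁻¹ = (l : X)⁻¹ * a := by
      rw [mem_centralizer_iff.1 hl g g.2, mul_inv_cancel_right]
    have e : (g : X) * a * (g : X)⁻¹ = ((g * l * g⁻¹ : ↥L) : X) * ((l : X)⁻¹ * a) := by
      conv_rhs => arg 2; rw [← hc]
      show _ = (g : X) * l * (g : X)⁻¹ * _
      group
    have ha' : (g : X) * a * (g : X)⁻¹ ∈ A := h.closed.2 a ha g (by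
      rw [e]; exact mul_mem hgl (mul_mem (inv_mem (hTmem l a ha hl)) (h.le ha)))
    refine ⟨g * l * g⁻¹ * l⁻¹, ?_, Subtype.ext ?_, ?_⟩
    · have := mul_mem ha' (inv_mem ha)
      rw [e] at this
      rwa [show ((g * l * g⁻¹ : ↥L) : X) * ((l : X)⁻¹ * a) * a⁻¹ = ((g * l * g⁻¹ * l⁻¹ : ↥L) : X) by
        simp only [Subgroup.coe_mul, Subgroup.coe_inv]; group] at this
    · obtain ⟨_, -, hsq⟩ := h.exists_inner hL ha
      set u := (g : X) * a * (g : X)⁻¹
      have hv : ((g * l * g⁻¹ * l⁻¹ : ↥L) : X) = u * a⁻¹ := by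
        rw [e]; simp only [Subgroup.coe_mul, Subgroup.coe_inv]; group
      have huu : u * u = a * a := by
        show (g : X) * a * (g : X)⁻¹ * ((g : X) * a * (g : X)⁻¹) = a * a
        rw [_root_.conj_mul, mem_centralizer_iff.1 hsq g g.2, mul_inv_cancel_right]
      show ((g * l * g⁻¹ * l⁻¹ : ↥L) : X) * ((g * l * g⁻¹ * l⁻¹ : ↥L) : X) = 1
      rw [hv, (show Commute u a⁻¹ from (show Commute u a from h.comm _ ha' _ ha).inv_right).symm.mul_mul_mul_comm,
        huu]
      group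
    · rw [map_mul, map_mul, map_mul, map_inv, map_inv, hg, hlj, hk, mul_inv_cancel_right]
  refine ⟨P, F, htyp, hmem, hproj, hlift, fun z hz hzc' => ?_⟩
  -- the centre
  have hq := hL.2
  have hperf : _root_.commutator ↥L = ⊤ := qs_perfect hL
  have hz' : (⟨z, hz⟩ : ↥L) ∈ center ↥L :=
    mem_center_iff.2 fun m => Subtype.ext (mem_centralizer_iff.1 hzc' m m.2)
  rcases htyp with hab | hH
  · have hP0 : ∀ x y : (P₀ : Subgroup ↥L), x * y = y * x := by
      have hdec : ∀ x : ↥L, x ∈ (P₀ : Subgroup ↥L) → ∃ v : ↥L, (v : X) ∈ A ∧ v⁻¹ * x ∈ center ↥L := by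
        intro x hx
        rw [hP₀] at hx
        obtain ⟨v, hv, -, hvx⟩ := hlift (zm L x) ⟨(hmem x).2 hx, sq_of_typed_abelian hna hab P _ ((hmem x).2 hx)⟩
        exact ⟨v, hv, QuotientGroup.eq.1 hvx⟩
      intro x y
      obtain ⟨v, hv, hx⟩ := hdec x x.2
      obtain ⟨w, hw, hy⟩ := hdec y y.2
      refine Subtype.ext ?_
      show (x : ↥L) * y = y * x
      have hvw : v * w = w * v := Subtype.ext (h.comm _ hv _ hw)
      have hcx := mem_center_iff.1 hx
      have hcy := mem_center_iff.1 hy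
      calc (x : ↥L) * y = v * (v⁻¹ * x) * (w * (w⁻¹ * y)) := by group
        _ = v * ((v⁻¹ * x) * w) * (w⁻¹ * y) := by group
        _ = v * (w * (v⁻¹ * x)) * (w⁻¹ * y) := by rw [hcx w]
        _ = (v * w) * ((v⁻¹ * x) * (w⁻¹ * y)) := by group
        _ = (w * v) * ((w⁻¹ * y) * (v⁻¹ * x)) := by rw [hvw, ← hcx (w⁻¹ * y)]
        _ = w * (v * (w⁻¹ * y)) * (v⁻¹ * x) := by group
        _ = w * ((w⁻¹ * y) * v) * (v⁻¹ * x) := by rw [hcy v]
        _ = _ := by group
    have hzP : (⟨z, hz⟩ : ↥L) ∈ (P₀ : Subgroup ↥L) := by rw [hP₀]; exact hcz _ hz'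
    have := Cfsg.Lib.BenderSE.CritDep.center_le_of_derived hperf (h.base.center_two hL) P₀ ⊥
      (fun a b => mem_bot.2 (by rw [hP0 a b]; group)) hz' hzP
    rw [mem_bot] at this
    have e : z = 1 := congrArg (fun w : (P₀ : Subgroup ↥L) => ((w : ↥L) : X)) this
    exact e ▸ one_mem A
  · obtain ⟨HN, hp⟩ := Walter.CI.exists_pair hna hH P
    set Z₀ := (A ⊓ centralizer (L : Set X)).subgroupOf L with hZ₀
    have hZ₀c : Z₀ ≤ center ↥L := fun x hx =>
      mem_center_iff.2 fun m => Subtype.ext (mem_centralizer_iff.1 (mem_subgroupOf.1 hx).2 m m.2)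
    haveI : Z₀.Normal := ⟨fun x hx g => by rw [mem_center_iff.1 (hZ₀c hx) g, mul_inv_cancel_right]; exact hx⟩
    have hZtop : Z₀ ≠ ⊤ := fun e => qs_center_ne_top hq (top_le_iff.1 (e ▸ hZ₀c))
    set σ := QuotientGroup.mk' Z₀ with hσ
    have hσs : Function.Surjective σ := QuotientGroup.mk'_surjective Z₀
    have hcent : center (↥L ⧸ Z₀) = (center ↥L).map σ := Cfsg.Lib.CpQuot.center_quot hq hZtop
    let f : ↥L ⧸ Z₀ →* ↥L ⧸ center ↥L := QuotientGroup.map Z₀ (center ↥L) (MonoidHom.id _) fun x hx => hZ₀c hx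
    have hf : Function.Surjective f := fun y => by
      obtain ⟨x, rfl⟩ := hsur y
      exact ⟨σ x, rfl⟩
    obtain ⟨i, hi⟩ := Cfsg.Lib.FiTypes.center_quotient_map f hf (by
      intro y hy
      obtain ⟨x, rfl⟩ := hσs y
      rw [hcent]
      exact mem_map_of_mem σ ((QuotientGroup.eq_one_iff x).1 hy)) (eq_bot_iff.2 fun y hy => mem_bot.2
        (center_bot F.simple hna fun g => (mem_center_iff.1 hy g).symm))
    set HX := (HN.comap (zm L)).map σ with hHX
    have hmemHX : ∀ x : ↥L, σ x ∈ HX ↔ zm L x ∈ HN := fun x => by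
      refine ⟨fun ⟨y, hy, hyx⟩ => ?_, fun h => mem_map_of_mem σ h⟩
      have := congrArg f hyx
      exact (show zm L y = zm L x from this) ▸ hy
    have C : Cfsg.Lib.BenderSE.CritDep.CoverData HX ((A.subgroupOf L).map σ) :=
      { qs := Cfsg.Lib.CpQuot.isQuasisimple_quot hq hZtop
        two := by
          rw [hcent]
          exact (h.base.center_two hL).map σ
        se := by
          have he : HX.map (QuotientGroup.mk' (center (↥L ⧸ Z₀))) = HN.map i.symm.toMonoidHom := by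
            ext y
            obtain ⟨y, rfl⟩ := QuotientGroup.mk'_surjective _ y
            obtain ⟨x, rfl⟩ := hσs y
            constructor
            · rintro ⟨_, ⟨v, hv, rfl⟩, hvx⟩
              refine ⟨zm L v, hv, ?_⟩
              rw [← hvx]
              show i.symm (zm L v) = QuotientGroup.mk (σ v)
              rw [MulEquiv.symm_apply_eq, hi]
              rfl
            · rintro ⟨b, hb, hbx⟩
              have : b = zm L x := by
                have := congrArg i hbx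
                rw [MulEquiv.coe_toMonoidHom, MulEquiv.apply_symm_apply, QuotientGroup.mk'_apply, hi] at this
                exact this
              exact mem_map_of_mem _ ((hmemHX x).2 (this ▸ hb))
          rw [he]
          exact Walter.CI.embedded_equiv i.symm hp.se
        zle := by
          rw [hcent]
          exact map_mono fun x hx => mem_comap.2 (by
            rw [show zm L x = 1 from (QuotientGroup.eq_one_iff x).2 hx]; exact one_mem _)
        rle := by
          rintro _ ⟨v, hv, rfl⟩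
          exact (hmemHX v).2 (hp.norm.le (le_normalizer ((hmem v).2 (h.le hv))))
        norm := by
          rintro _ ⟨x, hx, rfl⟩
          refine ZStarApps.mem_normalizer_of_maps ?_
          rintro _ ⟨v, hv, rfl⟩
          rw [← map_inv, ← map_mul, ← map_mul]
          refine mem_map_of_mem σ (h.closed.2 _ hv (x : X) ((hmem (x * v * x⁻¹)).1 ?_))
          rw [map_mul, map_mul, map_inv]
          exact (mem_normalizer_iff.1 (hp.norm.ge hx) _).1 ((hmem v).2 (h.le hv))
        avoid := by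
          rintro _ hc ⟨v, hv, rfl⟩ -
          rw [hcent] at hc
          obtain ⟨w, hw, hwv⟩ := hc
          refine (QuotientGroup.eq_one_iff v).2 (mem_subgroupOf.2 ⟨hv, ?_⟩)
          have h1 : w⁻¹ * v ∈ center ↥L := hZ₀c (QuotientGroup.eq.1 hwv)
          have h2 := mul_mem hw h1
          rw [mul_inv_cancel_left] at h2
          exact mem_centralizer_iff.2 fun m hm' => congrArg Subtype.val (mem_center_iff.1 h2 ⟨m, hm'⟩)
        cover := by
          rintro _ ⟨x, hx, rfl⟩ hx2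
          have hπx : orderOf (zm L x) = 2 := by
            have h1 := MulEquiv.orderOf_eq i (QuotientGroup.mk (σ x))
            rw [hi] at h1
            exact h1.trans hx2
          have hxP : zm L x ∈ P := by
            have hle : zpowers (zm L x) ≤ normalizer ((P : Subgroup (↥L ⧸ center ↥L)) : Set _) :=
              zpowers_le.2 (hp.norm.ge hx)
            have hp2 : IsPGroup 2 (zpowers (zm L x)) :=
              IsPGroup.of_card (n := 1) (by rw [Nat.card_zpowers, hπx, pow_one])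
            exact (P.is_maximal' (hp2.to_sup_of_normal_right' P.isPGroup' hle) le_sup_right).le
              (mem_sup_left (mem_zpowers _))
          obtain ⟨v, hv, -, hvx⟩ := hlift _ ⟨hxP, by rw [← pow_two, ← hπx, pow_orderOf_eq_one]⟩
          refine ⟨σ v, mem_map_of_mem σ (show v ∈ A.subgroupOf L from hv), ?_⟩
          apply i.injective
          show i (QuotientGroup.mk (σ v)) = i (QuotientGroup.mk (σ x))
          rw [hi, hi]
          exact hvx }
    have hbot := C.center_eq_bot Cfsg.Lib.BenderSE.regProp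
    rw [hcent, Subgroup.map_eq_bot_iff, hσ, QuotientGroup.ker_mk'] at hbot
    exact (mem_subgroupOf.1 (hbot hz')).1

end Cfg

end Cfsg.Lib.Goldschmidt.ThmA
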