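import Cfsg.Agent.Goldschmidt.Consequences.ThmA.Structure
import Cfsg.Agent.TwoFusion.Product.Main

/-!
Two commuting strongly closed subgroups: the normal closures commute modulo the odd core and the normal closure
of their intersection.
-/

set_option autoImplicit false
set_option linter.unusedSectionVars false
set_option linter.style.haveILetI false

namespace Cfsg.Lib.Goldschmidt.ThmA

open Subgroup Cfsg.Lib.Components
open scoped commutatorElement

universe u

variable {X : Type u} [Group X] [Finite X]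

/-- `S` has an element on `L` which does not square into the centraliser. -/
def Big (S L : Subgroup X) : Prop := ∃ s ∈ S, s ∈ L ∧ s * s ∉ centralizer (L : Set X)

/-- A strongly closed subgroup containing `A` in its centre. -/
structure Side (T : Sylow 2 X) (A S : Subgroup X) : Prop where
  closed : Cfsg.IsStronglyClosed S (T : Subgroup X)
  le : A ≤ S
  comm : ∀ a ∈ A, ∀ s ∈ S, a * s = s * a

namespace Cfg

variable {T : Sylow 2 X} {A : Subgroup X} (h : Cfg T A)
include h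

/-- A 2-element of a component has a conjugate in the component inside `T`. -/
theorem exists_conj_mem {L : Subgroup X} (hL : Cfsg.IsComponent L) {w : X} (hw : w ∈ L)
    (h2 : ∃ k : ℕ, w ^ 2 ^ k = 1) : ∃ l ∈ L, l * w * l⁻¹ ∈ (T : Subgroup X) := by
  haveI : Fact (Nat.Prime 2) := ⟨Nat.prime_two⟩
  obtain ⟨k, hk⟩ := h2
  obtain ⟨P, hP⟩ := h.base.sylow_comp hL
  obtain ⟨i, -, hi⟩ := (Nat.dvd_prime_pow Nat.prime_two).1 (orderOf_dvd_of_pow_eq_one
    (show (⟨w, hw⟩ : L) ^ 2 ^ k = 1 from Subtype.ext hk))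
  have hp : IsPGroup 2 (zpowers (⟨w, hw⟩ : L)) := IsPGroup.of_card (n := i) (by rw [Nat.card_zpowers, hi])
  obtain ⟨R, hR⟩ := hp.exists_le_sylow
  obtain ⟨l, hl⟩ := MulAction.exists_smul_eq L R P
  have hmem : l * ⟨w, hw⟩ * l⁻¹ ∈ (P : Subgroup L) := by
    rw [← hl, Sylow.coe_subgroup_smul]
    exact ⟨_, hR (mem_zpowers _), rfl⟩
  rw [hP, mem_subgroupOf] at hmem
  exact ⟨l, l.2, hmem⟩

variable {S : Subgroup X} (hS : Side T A S)
include hS

theorem side_pow {s : X} (hs : s ∈ S) : ∃ k : ℕ, s ^ 2 ^ k = 1 := by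
  obtain ⟨k, hk⟩ := T.2 ⟨s, hS.closed.1 hs⟩
  exact ⟨k, congrArg Subtype.val hk⟩

theorem side_norm {L : Subgroup X} (hL : Cfsg.IsComponent L) (hm : Mov A L) : S ≤ normalizer (L : Set X) := by
  intro s hs
  by_contra hn
  have hne : L.map (MulAut.conj s).toMonoidHom ≠ L := fun e => hn (mem_normalizer_iff_map_conj_eq.2 e)
  obtain ⟨v, hv, hvL, hvc⟩ := h.exists_noncentral hL hm
  refine hvc (comm_of_ne (Cfsg.Lib.Components.comp_conj hL s) hL hne ⟨v, hvL, ?_⟩)
  show s * v * s⁻¹ = v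
  rw [← hS.comm v hv s hs, mul_inv_cancel_right]

/-- An element of `S` inner on `L` has its component in `S`. -/
theorem exists_side {L : Subgroup X} (hL : Cfsg.IsComponent L) (hm : Mov A L) {s : X} (hs : s ∈ S)
    (hin : s ∈ L ⊔ centralizer (L : Set X)) :
    ∃ l ∈ L, l ∈ S ∧ l⁻¹ * s ∈ centralizer (L : Set X) := by
  classical
  haveI : Fact (Nat.Prime 2) := ⟨Nat.prime_two⟩
  obtain ⟨c, hc, l, hl, hcl⟩ :=
    (Cfsg.Lib.Coprime.mem_sup_of_le_normalizer' (centralizer_le_normalizer _)).1 hin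
  obtain ⟨P, D⟩ := h.data hL hm
  obtain rfl : l * c = s := by rw [mem_centralizer_iff.1 hc l hl, hcl]
  have hsT : l * c ∈ (T : Subgroup X) := hS.closed.1 hs
  have hcl' : l * c = c * l := mem_centralizer_iff.1 hc l hl
  set q := zm (L : Subgroup X) ⟨l, hl⟩ with hq
  have hn : q ∈ normalizer ((P : Subgroup (↥L ⧸ center ↥L)) : Set (↥L ⧸ center ↥L)) := by
    refine ZStarApps.mem_normalizer_of_maps fun p hp => ?_
    obtain ⟨y, rfl⟩ := QuotientGroup.mk'_surjective (center ↥L) p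
    have hy := (D.mem_iff y).1 hp
    rw [hq, ← map_inv, ← map_mul, ← map_mul]
    refine (D.mem_iff _).2 ?_
    show l * (y : X) * l⁻¹ ∈ (T : Subgroup X)
    rw [show l * (y : X) * l⁻¹ = l * ((y : X) * c) * (c⁻¹ * l⁻¹) by group,
      mem_centralizer_iff.1 hc y y.2,
      show l * (c * (y : X)) * (c⁻¹ * l⁻¹) = l * c * y * (l * c)⁻¹ by group]
    exact mul_mem (mul_mem hsT hy) (inv_mem hsT)
  obtain ⟨k, hk⟩ := h.side_pow hS hs
  have hq2 : q ^ 2 ^ k = 1 := by
    rw [hq, ← map_pow]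
    refine zm_eq_one.2 ?_
    show l ^ 2 ^ k ∈ centralizer (L : Set X)
    have h1 : l ^ 2 ^ k * c ^ 2 ^ k = 1 := by rw [← (show Commute l c from hcl').mul_pow, hk]
    rw [eq_inv_of_mul_eq_one_left h1]
    exact inv_mem (pow_mem hc _)
  have hqP : q ∈ P := by
    obtain ⟨i, -, hi⟩ := (Nat.dvd_prime_pow Nat.prime_two).1 (orderOf_dvd_of_pow_eq_one hq2)
    exact (P.is_maximal' ((IsPGroup.of_card (n := i) (by rw [Nat.card_zpowers, hi])).to_sup_of_normal_right'
      P.isPGroup' (zpowers_le.2 hn)) le_sup_right).le (mem_sup_left (mem_zpowers _))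
  have hlT : l ∈ (T : Subgroup X) := (D.mem_iff ⟨l, hl⟩).1 hqP
  have hcT : c ∈ (T : Subgroup X) := by
    have := mul_mem (inv_mem hlT) hsT
    rwa [inv_mul_cancel_left] at this
  -- the image of `S ∩ L`
  set B := (S.subgroupOf L).map (zm L) with hB
  have hBP : B ≤ (P : Subgroup (↥L ⧸ center ↥L)) := by
    rintro _ ⟨y, hy, rfl⟩
    exact (D.mem_iff y).2 (hS.closed.1 hy)
  obtain ⟨w, hw, hfree⟩ := D.facts.fpf
  set N := normalizer ((P : Subgroup (↥L ⧸ center ↥L)) : Set (↥L ⧸ center ↥L))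
  have hBN : ∀ g ∈ N, ∀ b ∈ B, g * b * g⁻¹ ∈ B := by
    rintro g hg _ ⟨y, hy, rfl⟩
    obtain ⟨g, rfl⟩ := QuotientGroup.mk'_surjective (center ↥L) g
    rw [← map_inv, ← map_mul, ← map_mul]
    refine mem_map_of_mem _ (hS.closed.2 _ hy (g : X) ?_)
    exact (D.mem_iff (g * y * g⁻¹)).1 (by
      rw [map_mul, map_mul, map_inv]
      exact (mem_normalizer_iff.1 hg _).1 ((D.mem_iff y).2 (hS.closed.1 hy)))
  have hIB : ∀ i, Inv (P : Subgroup (↥L ⧸ center ↥L)) i → i ∈ B := fun i hi => by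
    obtain ⟨v, hv, -, e⟩ := D.lift i hi
    exact e ▸ mem_map_of_mem _ (hS.le hv)
  have hwq : w * q * w⁻¹ * q⁻¹ ∈ B := by
    obtain ⟨g, rfl⟩ := QuotientGroup.mk'_surjective (center ↥L) w
    have hgl : (g : X) * l * (g : X)⁻¹ ∈ (T : Subgroup X) := (D.mem_iff (g * ⟨l, hl⟩ * g⁻¹)).1 (by
      rw [map_mul, map_mul, map_inv]
      exact (mem_normalizer_iff.1 hw _).1 hqP)
    have hcg : (g : X) * c * (g : X)⁻¹ = c := by rw [mem_centralizer_iff.1 hc g g.2, mul_inv_cancel_right]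
    have e : (g : X) * (l * c) * (g : X)⁻¹ = (g : X) * l * (g : X)⁻¹ * c := by
      rw [← _root_.conj_mul, hcg]
    have hgs := hS.closed.2 _ hs (g : X) (by rw [e]; exact mul_mem hgl hcT)
    have h1 := mul_mem hgs (inv_mem hs)
    rw [e, show (g : X) * l * (g : X)⁻¹ * c * (l * c)⁻¹ =
      ((g * ⟨l, hl⟩ * g⁻¹ * ⟨l, hl⟩⁻¹ : ↥L) : X) by
        simp only [Subgroup.coe_mul, Subgroup.coe_inv]; group] at h1
    exact ⟨g * ⟨l, hl⟩ * g⁻¹ * ⟨l, hl⟩⁻¹, h1, by rw [map_mul, map_mul, map_mul, map_inv, map_inv]⟩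
  -- `y ↦ [w, y]` permutes the cosets of the involutions in `B`
  set I := (invGroup D.facts.simple).subgroupOf (P : Subgroup (↥L ⧸ center ↥L)) with hI
  haveI : I.Normal := normal_subgroupOf_of_le_normalizer fun x hx =>
    normalizer_le_invGroup D.facts.simple (le_normalizer hx)
  let cw : ↥(P : Subgroup (↥L ⧸ center ↥L)) →* ↥(P : Subgroup (↥L ⧸ center ↥L)) :=
    { toFun := fun x => ⟨w * x * w⁻¹, (mem_normalizer_iff.1 hw _).1 x.2⟩
      map_one' := Subtype.ext (by simp)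
      map_mul' := fun x y => Subtype.ext (by simp only [Subgroup.coe_mul]; group) }
  let cw' := QuotientGroup.map I I cw fun x hx =>
    (mem_normalizer_iff.1 (normalizer_le_invGroup D.facts.simple hw) _).1 hx
  let f : ↥(P : Subgroup (↥L ⧸ center ↥L)) ⧸ I → ↥(P : Subgroup (↥L ⧸ center ↥L)) ⧸ I :=
    fun x => cw' x * x⁻¹
  have hf : Function.Injective f := by
    intro x y e
    have h1 : cw' (y⁻¹ * x) = y⁻¹ * x := by
      have e' : cw' x * x⁻¹ = cw' y * y⁻¹ := e
      calc cw' (y⁻¹ * x) = (cw' y)⁻¹ * (cw' x * x⁻¹) * x := by rw [map_mul, map_inv]; group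
        _ = _ := by rw [e']; group
    obtain ⟨r, hr⟩ := QuotientGroup.mk'_surjective I (y⁻¹ * x)
    rw [← hr] at h1
    have h2 : (r : ↥(P : Subgroup (↥L ⧸ center ↥L)) ⧸ I) = 1 := by
      refine (QuotientGroup.eq_one_iff r).2 (mem_subgroupOf.2 (hfree r r.2 ?_))
      have h3 : QuotientGroup.mk' I (cw r * r⁻¹) = 1 := by
        rw [map_mul, map_inv, mul_inv_eq_one]; exact h1
      exact mem_subgroupOf.1 ((QuotientGroup.eq_one_iff _).1 h3)
    exact (inv_mul_eq_one.1 (hr.symm.trans h2)).symm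
  set B' := (B.subgroupOf (P : Subgroup (↥L ⧸ center ↥L))).map (QuotientGroup.mk' I)
  have hfB : ∀ x ∈ B', f x ∈ B' := by
    rintro _ ⟨b, hb, rfl⟩
    refine ⟨cw b * b⁻¹, ?_, by rw [map_mul, map_inv]; rfl⟩
    exact mem_subgroupOf.2 (mul_mem (hBN w hw _ hb) (inv_mem hb))
  obtain ⟨⟨b, hb⟩, hfb⟩ := (Finite.injective_iff_surjective.1
    (show Function.Injective fun x : B' => (⟨f x, hfB x x.2⟩ : B') from
      fun x y e => Subtype.ext (hf (congrArg Subtype.val e))))
    ⟨f (QuotientGroup.mk' I ⟨q, hqP⟩), ⟨cw ⟨q, hqP⟩ * ⟨q, hqP⟩⁻¹, mem_subgroupOf.2 hwq,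
      by rw [map_mul, map_inv]; rfl⟩⟩
  have hbq : b = QuotientGroup.mk' I ⟨q, hqP⟩ := hf (congrArg Subtype.val hfb)
  obtain ⟨b', hb', hbb⟩ := hbq ▸ hb
  have hqB : q ∈ B := by
    have h1 : b'⁻¹ * ⟨q, hqP⟩ ∈ I := QuotientGroup.eq.1 hbb
    have h2 := mul_mem (mem_subgroupOf.1 hb') (hIB _ (mem_subgroupOf.1 h1))
    rwa [Subgroup.coe_mul, Subgroup.coe_inv, mul_inv_cancel_left] at h2
  obtain ⟨y, hy, hyl⟩ := hqB
  refine ⟨y, y.2, hy, ?_⟩
  rw [show (y : X)⁻¹ * (l * c) = ((y : X)⁻¹ * l) * c by group]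
  exact mul_mem (zm_eq_iff.1 hyl) hc

/-- Unless `S` is big on `L` it acts on it by inner automorphisms. -/
theorem inner_of_not_big {L : Subgroup X} (hL : Cfsg.IsComponent L) (hm : Mov A L) (hb : ¬ Big S L) {s : X}
    (hs : s ∈ S) : s ∈ L ⊔ centralizer (L : Set X) := by
  haveI : Fact (Nat.Prime 2) := ⟨Nat.prime_two⟩
  obtain ⟨hsimp, hna⟩ := h.base.simple hL
  haveI := hsimp
  obtain ⟨P, D⟩ := h.data hL hm
  have hsn := h.side_norm hS hL hm hs
  set α : MulAut ↥L := GenDihedral.cj L s hsn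
  have hα : ∀ y : ↥L, ((α y : ↥L) : X) = s * y * s⁻¹ := fun y => rfl
  have hcen : (center ↥L).map α.toMonoidHom = center ↥L :=
    Subgroup.characteristic_iff_map_eq.1 Subgroup.centerCharacteristic α
  set β : MulAut (↥L ⧸ center ↥L) := QuotientGroup.congr _ _ α hcen
  have hβ : ∀ y : ↥L, β (zm L y) = zm L (α y) := fun y => rfl
  have hsur : Function.Surjective (zm L) := QuotientGroup.mk'_surjective _
  have hαn : ∀ (n : ℕ) (y : ↥L), (((α ^ n) y : ↥L) : X) = s ^ n * y * (s ^ n)⁻¹ := by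
    intro n
    induction n with
    | zero => intro y; simp
    | succ n ih => intro y; rw [pow_succ', MulAut.mul_apply, hα, ih, pow_succ']; group
  have hβn : ∀ (n : ℕ) (y : ↥L), (β ^ n) (zm L y) = zm L ((α ^ n) y) := by
    intro n
    induction n with
    | zero => intro y; rfl
    | succ n ih => intro y; rw [pow_succ', MulAut.mul_apply, ih, hβ, pow_succ', MulAut.mul_apply]
  have h2 : ∃ j : ℕ, orderOf β = 2 ^ j := by
    obtain ⟨k, hk⟩ := h.side_pow hS hs
    have e : β ^ 2 ^ k = 1 := MulEquiv.ext fun q => by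
      obtain ⟨y, rfl⟩ := hsur q
      rw [hβn, MulAut.one_apply]
      exact congrArg _ (Subtype.ext (by rw [hαn, hk, one_mul, inv_one, mul_one]))
    obtain ⟨j, -, hj⟩ := (Nat.dvd_prime_pow Nat.prime_two).1 (orderOf_dvd_of_pow_eq_one e)
    exact ⟨j, hj⟩
  have htr : β ∈ triv D.facts.simple := by
    refine ⟨fun i hi => ?_, fun x hx => ?_⟩
    · obtain ⟨v, hv, -, rfl⟩ := D.lift i hi
      rw [hβ]
      exact congrArg _ (Subtype.ext (by rw [hα, ← hS.comm _ hv s hs, mul_inv_cancel_right]))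
    · obtain ⟨l, rfl⟩ := hsur x
      rw [hβ, ← map_inv, ← map_mul]
      have hlT := (D.mem_iff l).1 hx
      have hmem : ((l⁻¹ * α l : ↥L) : X) ∈ S := by
        show (l : X)⁻¹ * ((α l : ↥L) : X) ∈ S
        rw [hα, show (l : X)⁻¹ * (s * l * s⁻¹) = (l : X)⁻¹ * s * (l : X)⁻¹⁻¹ * s⁻¹ by group]
        exact mul_mem ((mem_normalizer_iff.1 (sylow_le_normalizer hS.closed (inv_mem hlT)) s).1 hs) (inv_mem hs)
      refine ⟨(D.mem_iff _).2 (hS.closed.1 hmem), ?_⟩
      rw [← map_mul]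
      exact zm_eq_one.2 (not_not.1 fun hc => hb ⟨_, hmem, (l⁻¹ * α l).2, hc⟩)
  obtain ⟨y, -, hy⟩ := inner_of_trivial D.facts.simple hna h2 htr
  obtain ⟨l, rfl⟩ := hsur y
  have hc : (l : X)⁻¹ * s ∈ centralizer (L : Set X) := mem_centralizer_of_mod_center hL fun m hm' => by
    have h1 : zm L (α ⟨m, hm'⟩) = zm L (l * ⟨m, hm'⟩ * l⁻¹) := by
      rw [← hβ, hy, MulAut.conj_apply, map_mul, map_mul, map_inv]
    have h3 : zm L (l⁻¹ * α ⟨m, hm'⟩ * l * ⟨m, hm'⟩⁻¹) = 1 := by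
      rw [map_mul, map_mul, map_mul, h1, map_mul, map_mul, map_inv, map_inv]; group
    have h4 := zm_eq_one.1 h3
    simp only [Subgroup.coe_mul, Subgroup.coe_inv, hα] at h4
    rw [show (l : X)⁻¹ * s * m * ((l : X)⁻¹ * s)⁻¹ * m⁻¹ = (l : X)⁻¹ * (s * m * s⁻¹) * l * m⁻¹ by group]
    exact mem_inf.2 ⟨mul_mem (mul_mem (mul_mem (inv_mem l.2) ((mem_normalizer_iff.1 hsn m).1 hm')) l.2)
      (inv_mem hm'), h4⟩
  have := mul_mem (mem_sup_left (T := centralizer (L : Set X)) l.2) (mem_sup_right (S := L) hc)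
  rwa [mul_inv_cancel_left] at this

theorem big_conj {L : Subgroup X} (hL : Cfsg.IsComponent L) (hb : Big S L) (g : X) :
    Big S (L.map (MulAut.conj g).toMonoidHom) := by
  obtain ⟨s, hs, hsL, hsc⟩ := hb
  obtain ⟨k, hk⟩ := h.side_pow hS hs
  obtain ⟨l, hl, hlT⟩ := h.exists_conj_mem (Cfsg.Lib.Components.comp_conj hL g)
    (show g * s * g⁻¹ ∈ L.map (MulAut.conj g).toMonoidHom from ⟨s, hsL, rfl⟩)
    ⟨k, by rw [conj_pow, hk, mul_one, mul_inv_cancel]⟩
  have hls := hS.closed.2 s hs (l * g) (by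
    rwa [show l * g * s * (l * g)⁻¹ = l * (g * s * g⁻¹) * l⁻¹ by group])
  refine ⟨_, hls, ?_, fun hc => hsc (mem_centralizer_iff.2 fun m hm => ?_)⟩
  · rw [show l * g * s * (l * g)⁻¹ = l * (g * s * g⁻¹) * l⁻¹ by group]
    exact mul_mem (mul_mem hl ⟨s, hsL, rfl⟩) (inv_mem hl)
  · have h1 := mem_centralizer_iff.1 hc (l * (g * m * g⁻¹) * l⁻¹) (mul_mem (mul_mem hl ⟨m, hm, rfl⟩) (inv_mem hl))
    rw [show l * g * s * (l * g)⁻¹ * (l * g * s * (l * g)⁻¹) = (l * g) * (s * s) * (l * g)⁻¹ by group,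
      show l * (g * m * g⁻¹) * l⁻¹ = (l * g) * m * (l * g)⁻¹ by group, _root_.conj_mul, _root_.conj_mul] at h1
    exact mul_left_cancel (mul_right_cancel h1)

/-- The conjugates of `S` act on `L` by inner automorphisms unless `S` is big on `L`. -/
theorem closure_le_inner {L : Subgroup X} (hL : Cfsg.IsComponent L) (hm : Mov A L) (hb : ¬ Big S L) :
    normalClosure (S : Set X) ≤ L ⊔ centralizer (L : Set X) := by
  refine ProdFusion.normalClosure_le_iff_isIn fun x hx => ?_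
  obtain ⟨g, s, hs, rfl⟩ := hx
  set L' := L.map (MulAut.conj g⁻¹).toMonoidHom with hL'
  have hcL' := Cfsg.Lib.Components.comp_conj hL g⁻¹
  have hback : L'.map (MulAut.conj g).toMonoidHom = L := by
    ext x
    constructor
    · rintro ⟨_, ⟨y, hy, rfl⟩, rfl⟩
      simpa [mul_assoc] using hy
    · intro hx
      exact ⟨g⁻¹ * x * g⁻¹⁻¹, ⟨x, hx, rfl⟩, by simp [mul_assoc]⟩
  have hb' : ¬ Big S L' := fun h' => hb (by
    have := h.big_conj hS hcL' h' g
    rwa [hback] at this)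
  obtain ⟨c, hc, l, hl, hcl⟩ := (Cfsg.Lib.Coprime.mem_sup_of_le_normalizer' (centralizer_le_normalizer _)).1
    (h.inner_of_not_big hS hcL' (h.mov_conj hL hm g⁻¹) hb' hs)
  subst hcl
  rw [show g * (c * l) * g⁻¹ = (g * c * g⁻¹) * (g * l * g⁻¹) by group]
  refine mul_mem (mem_sup_right (mem_centralizer_iff.2 fun m hm' => ?_))
    (mem_sup_left (hback ▸ (⟨l, hl, rfl⟩ : g * l * g⁻¹ ∈ L'.map (MulAut.conj g).toMonoidHom)))
  rw [← hback] at hm'
  obtain ⟨m', hm'', rfl⟩ := hm'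
  show g * m' * g⁻¹ * (g * c * g⁻¹) = g * c * g⁻¹ * (g * m' * g⁻¹)
  rw [_root_.conj_mul, _root_.conj_mul, mem_centralizer_iff.1 hc m' hm'']

theorem closure_le_normalizer {L : Subgroup X} (hL : Cfsg.IsComponent L) (hm : Mov A L) :
    normalClosure (S : Set X) ≤ normalizer (L : Set X) := by
  refine ProdFusion.normalClosure_le_iff_isIn fun x hx => ?_
  obtain ⟨g, s, hs, rfl⟩ := hx
  refine ZStarApps.mem_normalizer_of_maps fun y hy => ?_
  have h1 := (mem_normalizer_iff.1 (h.side_norm hS (Cfsg.Lib.Components.comp_conj hL g⁻¹) (h.mov_conj hL hm g⁻¹) hs)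
    (g⁻¹ * y * g⁻¹⁻¹)).1 ⟨y, hy, rfl⟩
  obtain ⟨m, hm', e⟩ := h1
  have e' : g⁻¹ * m * g⁻¹⁻¹ = s * (g⁻¹ * y * g⁻¹⁻¹) * s⁻¹ := e
  rwa [show g * s * g⁻¹ * y * (g * s * g⁻¹)⁻¹ = g * (s * (g⁻¹ * y * g⁻¹⁻¹) * s⁻¹) * g⁻¹ by group, ← e',
    show g * (g⁻¹ * m * g⁻¹⁻¹) * g⁻¹ = m by group]

end Cfg

/-- Two commuting strongly closed subgroups over `A = S₁ ∩ S₂`. -/
structure Pair (T : Sylow 2 X) (A S₁ S₂ : Subgroup X) : Prop where
  cfg : Cfg T A
  left : Side T A S₁
  right : Side T A S₂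
  inf : S₁ ⊓ S₂ ≤ A
  commutes : ∀ a ∈ S₁, ∀ b ∈ S₂, a * b = b * a

namespace Pair

variable {T : Sylow 2 X} {A S₁ S₂ : Subgroup X} (h : Pair T A S₁ S₂)
include h

theorem symm : Pair T A S₂ S₁ :=
  ⟨h.cfg, h.right, h.left, (inf_comm S₂ S₁).le.trans h.inf, fun a ha b hb => (h.commutes b hb a ha).symm⟩

theorem not_both {L : Subgroup X} (hL : Cfsg.IsComponent L) (hm : Mov A L) (h₁ : Big S₁ L) : ¬ Big S₂ L := by
  rintro ⟨t, ht, htL, htc⟩
  obtain ⟨s, hs, hsL, hsc⟩ := h₁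
  obtain ⟨P, D⟩ := h.cfg.data hL hm
  set B := (S₁.subgroupOf L).map (zm L)
  refine htc (zm_eq_one.1 ((map_mul (zm L) ⟨t, htL⟩ ⟨t, htL⟩).trans (D.facts.cent B ?_ (fun g hg => ?_)
    ⟨_, mem_map_of_mem (zm L) (show (⟨s, hsL⟩ : L) ∈ S₁.subgroupOf L from hs), fun e => hsc ?_⟩ _
    ((D.mem_iff ⟨t, htL⟩).2 (h.right.closed.1 ht)) ?_)))
  · rintro _ ⟨y, hy, rfl⟩
    exact (D.mem_iff y).2 (h.left.closed.1 hy)
  · refine ZStarApps.mem_normalizer_of_maps ?_
    rintro _ ⟨y, hy, rfl⟩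
    obtain ⟨g, rfl⟩ := QuotientGroup.mk'_surjective (center ↥L) g
    rw [← map_inv, ← map_mul, ← map_mul]
    refine mem_map_of_mem _ (h.left.closed.2 _ hy (g : X) ((D.mem_iff (g * y * g⁻¹)).1 ?_))
    rw [map_mul, map_mul, map_inv]
    exact (mem_normalizer_iff.1 hg _).1 ((D.mem_iff y).2 (h.left.closed.1 hy))
  · rw [← map_mul] at e
    exact zm_eq_one.1 e
  · rintro _ ⟨y, hy, rfl⟩
    rw [← map_mul, ← map_mul]
    exact congrArg _ (Subtype.ext (h.commutes _ hy t ht).symm)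

theorem commutator_le_inner {L : Subgroup X} (hL : Cfsg.IsComponent L) (hm : Mov A L) :
    ⁅normalClosure (S₁ : Set X), normalClosure (S₂ : Set X)⁆ ≤ L ⊔ centralizer (L : Set X) := by
  have key : ∀ {R R' : Subgroup X}, Side T A R → Side T A R' → ¬ Big R L →
      ⁅normalClosure (R : Set X), normalClosure (R' : Set X)⁆ ≤ L ⊔ centralizer (L : Set X) := by
    intro R R' hR hR' hb
    refine commutator_le.2 fun x hx y hy => ?_
    have hy' : y ∈ normalizer ((L ⊔ centralizer (L : Set X) : Subgroup X) : Set X) := by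
      have hn := h.cfg.closure_le_normalizer hR' hL hm hy
      refine ZStarApps.mem_normalizer_of_maps fun m hm' => ?_
      obtain ⟨c, hc, l, hl, rfl⟩ :=
        (Cfsg.Lib.Coprime.mem_sup_of_le_normalizer' (centralizer_le_normalizer _)).1 hm'
      rw [show y * (c * l) * y⁻¹ = (y * c * y⁻¹) * (y * l * y⁻¹) by group]
      refine mul_mem (mem_sup_right (mem_centralizer_iff.2 fun m hm'' => ?_))
        (mem_sup_left ((mem_normalizer_iff.1 hn l).1 hl))
      have h1 := mem_centralizer_iff.1 hc _ ((mem_normalizer_iff.1 (inv_mem hn) m).1 hm'')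
      calc m * (y * c * y⁻¹) = y * (y⁻¹ * m * y⁻¹⁻¹ * c) * y⁻¹ := by group
        _ = y * (c * (y⁻¹ * m * y⁻¹⁻¹)) * y⁻¹ := by rw [h1]
        _ = _ := by group
    have hxI := h.cfg.closure_le_inner hR hL hm hb hx
    rw [commutatorElement_def, show x * y * x⁻¹ * y⁻¹ = x * (y * x⁻¹ * y⁻¹) by group]
    exact mul_mem hxI ((mem_normalizer_iff.1 hy' _).1 (inv_mem hxI))
  by_cases hb : Big S₁ L
  · rw [Subgroup.commutator_comm]
    exact key h.right h.left (h.not_both hL hm hb)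
  · exact key h.left h.right hb

theorem commutator_le_sup :
    ⁅normalClosure (S₁ : Set X), normalClosure (S₂ : Set X)⁆ ≤
      normalClosure (A : Set X) ⊔ centralizer (normalClosure (A : Set X) : Set X) := by
  classical
  haveI := Fintype.ofFinite {L // L ∈ movSet A}
  intro x hx
  haveI := h.cfg.inf_pCore_normal
  haveI : (centralizer ((A ⊓ Cfsg.pCore 2 X : Subgroup X) : Set X)).Normal := normal_centralizer
  have hxZ : x ∈ centralizer ((A ⊓ Cfsg.pCore 2 X : Subgroup X) : Set X) := by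
    have hN : normalClosure (S₁ : Set X) ≤ centralizer ((A ⊓ Cfsg.pCore 2 X : Subgroup X) : Set X) :=
      normalClosure_le_normal fun s hs => mem_centralizer_iff.2 fun z hz => h.left.comm z hz.1 s hs
    exact hN (Subgroup.commutator_le_left _ _ hx)
  have hcor : ∀ s : Finset {L // L ∈ movSet A}, ∃ e ∈ movLayer A, ∀ L ∈ s,
      e⁻¹ * x ∈ centralizer ((L : Subgroup X) : Set X) := by
    intro s
    induction s using Finset.induction_on with
    | empty => exact ⟨1, one_mem _, by simp⟩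
    | @insert L s hLs ih =>
      obtain ⟨e, he, hes⟩ := ih
      have heI : e⁻¹ * x ∈ (L : Subgroup X) ⊔ centralizer ((L : Subgroup X) : Set X) := by
        refine mul_mem (inv_mem ?_) (h.commutator_le_inner L.2.1 L.2.2 hx)
        refine (sSup_le fun L' hL' => ?_ : movLayer A ≤ _) he
        by_cases e' : L' = (L : Subgroup X)
        · exact e' ▸ le_sup_left
        · exact fun y hy => mem_sup_right (comm_of_ne hL'.1 L.2.1 e' hy)
      obtain ⟨c, hc, l, hl, hcl⟩ :=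
        (Cfsg.Lib.Coprime.mem_sup_of_le_normalizer' (centralizer_le_normalizer _)).1 heI
      refine ⟨e * l, mul_mem he (le_movLayer L.2.1 L.2.2 hl), fun L' hL' => ?_⟩
      rw [show (e * l)⁻¹ * x = l⁻¹ * (e⁻¹ * x) by group]
      rcases Finset.mem_insert.1 hL' with rfl | hL'
      · rw [← hcl, ← mem_centralizer_iff.1 hc l hl, inv_mul_cancel_left]
        exact hc
      · refine mul_mem (inv_mem (comm_of_ne L.2.1 L'.2.1 (fun e' => hLs ?_) hl)) (hes _ hL')
        rwa [show L = L' from Subtype.ext e']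
  obtain ⟨e, he, hes⟩ := hcor Finset.univ
  have heK : e ∈ normalClosure (A : Set X) := h.cfg.normalClosure_eq ▸ mem_sup_left he
  have := mul_mem (mem_sup_left (T := centralizer (normalClosure (A : Set X) : Set X)) heK)
    (mem_sup_right (S := normalClosure (A : Set X)) (?_ : e⁻¹ * x ∈ centralizer (normalClosure (A : Set X) : Set X)))
  · rwa [mul_inv_cancel_left] at this
  have hle : normalClosure (A : Set X) ≤ centralizer ({e⁻¹ * x} : Set X) := by
    rw [h.cfg.normalClosure_eq]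
    refine sup_le (sSup_le fun L hL y hy => ?_) fun z hz => ?_
    · exact mem_centralizer_singleton_iff.2 (mem_centralizer_iff.1 (hes ⟨L, hL⟩ (Finset.mem_univ _)) y hy)
    · refine mem_centralizer_singleton_iff.2 ?_
      have h1 : e⁻¹ * x ∈ centralizer ((A ⊓ Cfsg.pCore 2 X : Subgroup X) : Set X) :=
        mul_mem (inv_mem (mem_centralizer_iff.2 fun z' hz' =>
          (mem_centralizer_iff.1 (h.cfg.core_central hz') e heK).symm)) hxZ
      exact mem_centralizer_iff.1 h1 z hz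
  exact mem_centralizer_iff.2 fun y hy => mem_centralizer_singleton_iff.1 (hle hy)

/-- An element of `S₁` congruent to an element of `S₂` modulo the moved components has its part outside them
centralising them. -/
theorem exists_split {a b : X} (ha : a ∈ S₁) (hb : b ∈ S₂) (he : a⁻¹ * b ∈ movLayer A) :
    ∃ e ∈ S₁, e ∈ movLayer A ∧ ∀ L ∈ movSet A, e⁻¹ * a ∈ centralizer ((L : Subgroup X) : Set X) := by
  classical
  haveI := Fintype.ofFinite {L // L ∈ movSet A}
  have hE : ∀ L ∈ movSet A, movLayer A ≤ L ⊔ centralizer (L : Set X) := fun L hL => sSup_le fun L' hL' => by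
    by_cases e' : L' = L
    · exact e' ▸ le_sup_left
    · exact fun y hy => mem_sup_right (comm_of_ne hL'.1 hL.1 e' hy)
  suffices hs : ∀ s : Finset {L // L ∈ movSet A}, ∃ e ∈ S₁, e ∈ movLayer A ∧
      ∀ L ∈ s, e⁻¹ * a ∈ centralizer ((L : Subgroup X) : Set X) by
    obtain ⟨e, h1, h2, h3⟩ := hs Finset.univ
    exact ⟨e, h1, h2, fun L hL => h3 ⟨L, hL⟩ (Finset.mem_univ _)⟩
  intro s
  induction s using Finset.induction_on with
  | empty => exact ⟨1, one_mem _, one_mem _, by simp⟩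
  | @insert L s hLs ih =>
    obtain ⟨e, heS, heE, hes⟩ := ih
    have hin : e⁻¹ * a ∈ (L : Subgroup X) ⊔ centralizer ((L : Subgroup X) : Set X) := by
      refine mul_mem (inv_mem (hE _ L.2 heE)) ?_
      by_cases hbig : Big S₁ (L : Subgroup X)
      · have hb' := h.cfg.inner_of_not_big h.right L.2.1 L.2.2 (h.not_both L.2.1 L.2.2 hbig) hb
        have := mul_mem hb' (inv_mem (hE _ L.2 he))
        rwa [show b * (a⁻¹ * b)⁻¹ = a by group] at this
      · exact h.cfg.inner_of_not_big h.left L.2.1 L.2.2 hbig ha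
    obtain ⟨l, hl, hlS, hlc⟩ := h.cfg.exists_side h.left L.2.1 L.2.2 (mul_mem (inv_mem heS) ha) hin
    refine ⟨e * l, mul_mem heS hlS, mul_mem heE (le_movLayer L.2.1 L.2.2 hl), fun L' hL' => ?_⟩
    rw [show (e * l)⁻¹ * a = l⁻¹ * (e⁻¹ * a) by group]
    rcases Finset.mem_insert.1 hL' with rfl | hL'
    · exact hlc
    · refine mul_mem (inv_mem (comm_of_ne L.2.1 L'.2.1 (fun e' => hLs ?_) hl)) (hes _ hL')
      rwa [show L = L' from Subtype.ext e']

theorem mem_closure_of_congr {a b : X} (ha : a ∈ S₁) (hb : b ∈ S₂)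
    (hab : a⁻¹ * b ∈ normalClosure (A : Set X)) : a ∈ normalClosure (A : Set X) := by
  classical
  haveI := Fintype.ofFinite {L // L ∈ movSet A}
  obtain ⟨e, he, z, hz, hez⟩ := h.cfg.mem_closure_iff.1 hab
  set b' := b * z⁻¹ with hb'def
  have hb' : b' ∈ S₂ := mul_mem hb (inv_mem (h.right.le hz.1))
  have he' : a⁻¹ * b' = e := by rw [hb'def, ← mul_assoc, ← hez, mul_inv_cancel_right]
  obtain ⟨e1, he1, he1E, hc1⟩ := h.exists_split ha hb' (he'.symm ▸ he)
  obtain ⟨e2, he2, he2E, hc2⟩ := h.symm.exists_split hb' ha (by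
    rw [show b'⁻¹ * a = (a⁻¹ * b')⁻¹ by group, he']; exact inv_mem he)
  set c := e1⁻¹ * a with hc
  set c2 := e2⁻¹ * b' with hc2def
  have hcE : ∀ y ∈ movLayer A, y * c = c * y := fun y hy => by
    have hle : movLayer A ≤ centralizer ({c} : Set X) := sSup_le fun L hL m hm =>
      mem_centralizer_singleton_iff.2 (mem_centralizer_iff.1 (hc1 L hL) m hm)
    exact mem_centralizer_singleton_iff.1 (hle hy)
  have hd : c2 * c⁻¹ ∈ A := by
    refine h.cfg.mem_of_central Finset.univ _ (h.cfg.movLayer_eq_iSup ▸ ?_)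
      fun L _ => mul_mem (hc2 L L.2) (inv_mem (hc1 L L.2))
    rw [hc2def, show b' = a * e by rw [← he', mul_inv_cancel_left],
      show a = e1 * c by rw [hc, mul_inv_cancel_left],
      show e2⁻¹ * (e1 * c * e) * c⁻¹ = e2⁻¹ * e1 * (c * e * c⁻¹) by group, ← hcE e he, mul_inv_cancel_right]
    exact mul_mem (mul_mem (inv_mem he2E) he1E) he
  have hcA : c ∈ A := by
    refine h.inf (mem_inf.2 ⟨mul_mem (inv_mem he1) ha, ?_⟩)
    have := mul_mem (inv_mem (h.right.le hd)) (mul_mem (inv_mem he2) hb' : c2 ∈ S₂)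
    rwa [mul_inv_rev, inv_inv, mul_assoc, inv_mul_cancel, mul_one] at this
  rw [show a = e1 * c by rw [hc, mul_inv_cancel_left], h.cfg.normalClosure_eq]
  refine mul_mem (mem_sup_left he1E) ?_
  rw [← h.cfg.normalClosure_eq]
  exact subset_normalClosure hcA

theorem inf_centralizer_le :
    normalClosure (A : Set X) ⊓ centralizer (normalClosure (A : Set X) : Set X) ≤ A := by
  classical
  haveI := Fintype.ofFinite {L // L ∈ movSet A}
  intro x hx0
  obtain ⟨hx, hxc⟩ := mem_inf.1 hx0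
  obtain ⟨e, he, z, hz, rfl⟩ := h.cfg.mem_closure_iff.1 hx
  refine mul_mem (h.cfg.mem_of_central Finset.univ e (h.cfg.movLayer_eq_iSup ▸ he) fun L _ => ?_) hz.1
  refine mem_centralizer_iff.2 fun m hm => ?_
  have hmK : m ∈ normalClosure (A : Set X) :=
    h.cfg.normalClosure_eq ▸ mem_sup_left (le_movLayer L.2.1 L.2.2 hm)
  have h1 := mem_centralizer_iff.1 hxc m hmK
  have h2 := mem_centralizer_iff.1 (h.cfg.core_central hz) m hmK
  calc m * e = m * (e * z) * z⁻¹ := by group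
    _ = e * z * m * z⁻¹ := by rw [h1]
    _ = e * (m * z) * z⁻¹ := by rw [h2]; group
    _ = _ := by group

theorem commutator_le_closure :
    ⁅normalClosure (S₁ : Set X), normalClosure (S₂ : Set X)⁆ ≤ normalClosure (A : Set X) := by
  haveI : Fact (Nat.Prime 2) := ⟨Nat.prime_two⟩
  set M := normalClosure (A : Set X) with hM
  haveI : M.Normal := normalClosure_normal
  haveI : (centralizer (M : Set X)).Normal := normal_centralizer
  have hU := ProdFusion.le_comap_of_goal T h.left.closed h.right.closed h.commutes M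
    (fun a ha b hb hab => h.mem_closure_of_congr ha hb hab) (ProdFusion.product_fusion _)
  set U := (Cfsg.pPrimeCore 2 (X ⧸ M)).comap (QuotientGroup.mk' M) with hUdef
  set V := U ⊓ centralizer (M : Set X) with hV
  haveI : V.Normal := inferInstance
  set Z := M.subgroupOf V with hZ
  haveI : Z.Normal := inferInstance
  have hZA : ∀ z : V, z ∈ Z → (z : X) ∈ A := fun z hz =>
    h.inf_centralizer_le (mem_inf.2 ⟨hz, (mem_inf.1 z.2).2⟩)
  have hZc : Z ≤ center ↥V := fun z hz => mem_center_iff.2 fun v => Subtype.ext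
    (mem_centralizer_iff.1 (mem_inf.1 v.2).2 (z : X) hz).symm
  have hVM : V ≤ M := by
    have hidx : Z.index ∣ Nat.card (Cfsg.pPrimeCore 2 (X ⧸ M)) := by
      have hker : ((QuotientGroup.mk' M).comp V.subtype).ker = Z := by
        ext v
        rw [MonoidHom.mem_ker, hZ, mem_subgroupOf]
        exact QuotientGroup.eq_one_iff _
      rw [← hker, index_ker]
      refine card_dvd_of_le ?_
      rintro _ ⟨v, rfl⟩
      exact (mem_inf.1 v.2).1
    have hcopi : Nat.Coprime Z.index 2 := (coprime_card_pPrimeCore 2).coprime_dvd_left hidx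
    have hZ2 : IsPGroup 2 Z := fun z => by
      obtain ⟨k, hk⟩ := T.2 ⟨((z : V) : X), h.cfg.le (hZA _ z.2)⟩
      exact ⟨k, Subtype.ext (Subtype.ext (congrArg Subtype.val hk :))⟩
    obtain ⟨n, hn⟩ := IsPGroup.iff_card.1 hZ2
    obtain ⟨H, hH⟩ := exists_right_complement'_of_coprime (N := Z) (hn ▸ (hcopi.symm.pow_left n))
    haveI : H.Normal := normalizer_eq_top_iff.1 (eq_top_iff.2 (hH.sup_eq_top.ge.trans
      (sup_le (hZc.trans fun z hz => mem_normalizer_iff.2 fun x => by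
        rw [← mem_center_iff.1 hz x, mul_inv_cancel_right]) le_normalizer)))
    have hHc : (Nat.card H).Coprime 2 := by rw [← hH.symm.index_eq_card]; exact hcopi
    have hHb : H = ⊥ := by
      refine le_bot_iff.1 ((Cfsg.Lib.Components.le_pPrimeCore hHc).trans ?_)
      rw [← pPrimeCore_subgroupOf_eq (inferInstance : V.Normal).isSubnormal, h.cfg.core, bot_subgroupOf]
    have htop : Z = ⊤ := by
      have := hH.sup_eq_top
      rwa [hHb, sup_bot_eq] at this
    exact subgroupOf_eq_top.1 htop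
  intro x hx
  have hxS := h.commutator_le_sup hx
  obtain ⟨c, hc, m, hm, rfl⟩ := (Cfsg.Lib.Coprime.mem_sup_of_le_normalizer'
    (le_top.trans (normalizer_eq_top M).ge)).1 hxS
  refine mul_mem (hVM (mem_inf.2 ⟨?_, hc⟩)) hm
  have hmU : m ∈ U := by
    rw [hUdef, mem_comap, show QuotientGroup.mk' M m = 1 from (QuotientGroup.eq_one_iff m).2 hm]
    exact one_mem _
  have := mul_mem (hU hx) (inv_mem hmU)
  rwa [mul_inv_cancel_right] at this

end Pair

/-- The commutator of the normal closures of two commuting strongly closed subgroups. -/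
theorem pair_commutator_le (gold : GoldProp.{u}) {G : Type u} [Group G] [Finite G] (S : Sylow 2 G)
    (S₁ S₂ : Subgroup G) (h₁ : Cfsg.IsStronglyClosed S₁ (S : Subgroup G))
    (h₂ : Cfsg.IsStronglyClosed S₂ (S : Subgroup G)) (hc : ∀ a ∈ S₁, ∀ b ∈ S₂, a * b = b * a) :
    ⁅Subgroup.normalClosure (S₁ : Set G), Subgroup.normalClosure (S₂ : Set G)⁆ ≤
      Subgroup.normalClosure ((S₁ ⊓ S₂ : Subgroup G) : Set G) ⊔ Cfsg.pPrimeCore 2 G := by
  haveI : Fact (Nat.Prime 2) := ⟨Nat.prime_two⟩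
  set q := QuotientGroup.mk' (Cfsg.pPrimeCore 2 G) with hqdef
  have hq : Function.Surjective q := QuotientGroup.mk'_surjective _
  have hinj : ∀ a ∈ (S : Subgroup G), ∀ b ∈ (S : Subgroup G), q a = q b → a = b := fun a ha b hb e => by
    have h1 : a⁻¹ * b ∈ Cfsg.pPrimeCore 2 G := QuotientGroup.eq.1 e
    obtain ⟨k, hk⟩ := S.2 ⟨a⁻¹ * b, mul_mem (inv_mem ha) hb⟩
    have hd1 : orderOf (a⁻¹ * b) ∣ 2 ^ k := orderOf_dvd_of_pow_eq_one (congrArg Subtype.val hk :)
    have hd2 := Subgroup.orderOf_dvd_natCard _ h1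
    have h3 := Nat.dvd_gcd hd2 hd1
    rw [((coprime_card_pPrimeCore (G := G) 2).pow_right k).gcd_eq_one, Nat.dvd_one, orderOf_eq_one_iff] at h3
    exact inv_mul_eq_one.1 h3
  have hD : Cfsg.IsStronglyClosed (S₁ ⊓ S₂) (S : Subgroup G) :=
    ⟨inf_le_left.trans h₁.1, fun x hx g hg => mem_inf.2 ⟨h₁.2 x hx.1 g hg, h₂.2 x hx.2 g hg⟩⟩
  have hcomm : ∀ {R R' : Subgroup G}, (∀ a ∈ R, ∀ b ∈ R', a * b = b * a) →
      ∀ a ∈ R.map q, ∀ b ∈ R'.map q, a * b = b * a := by
    rintro R R' hRR _ ⟨a, ha, rfl⟩ _ ⟨b, hb, rfl⟩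
    rw [← map_mul, ← map_mul, hRR a ha b hb]
  have hcl : ∀ {R : Subgroup G}, Cfsg.IsStronglyClosed R (S : Subgroup G) →
      Cfsg.IsStronglyClosed (R.map q) ((S.mapSurjective hq : Sylow 2 _) : Subgroup _) :=
    fun hR => InvolCalc.stronglyClosed_quotient S hR _
  have hP : Pair (S.mapSurjective hq) ((S₁ ⊓ S₂).map q) (S₁.map q) (S₂.map q) := by
    refine ⟨⟨gold, pPrimeCore_quotient_eq_bot, hcl hD, hcomm fun a ha b hb => hc a ha.1 b hb.2⟩,
      ⟨hcl h₁, map_mono inf_le_left, hcomm fun a ha b hb => (hc b hb a ha.2).symm⟩,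
      ⟨hcl h₂, map_mono inf_le_right, hcomm fun a ha b hb => hc a ha.1 b hb⟩, ?_, hcomm hc⟩
    rintro _ ⟨⟨a, ha, rfl⟩, b, hb, hba⟩
    obtain rfl := hinj b (h₂.1 hb) a (h₁.1 ha) hba
    exact mem_map_of_mem q (mem_inf.2 ⟨ha, hb⟩)
  have h := hP.commutator_le_closure
  simp only [coe_map] at h
  rw [← map_normalClosure _ q hq, ← map_normalClosure _ q hq, ← map_normalClosure _ q hq, ← map_commutator,
    map_le_iff_le_comap, comap_map_eq, hqdef, QuotientGroup.ker_mk'] at h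
  exact h

end Cfsg.Lib.Goldschmidt.ThmA
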